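import Cfsg.Statements.S5914
import Mathlib
-- import your own Cfsg.Agent.* helpers here

set_option autoImplicit false
open Cfsg

namespace Cfsg.Agent.S5914

section pi
variable {S : Type*} [Group S] {n : ℕ}

/-- coordinate permutation as an automorphism of the power -/
def permAut (σ : Equiv.Perm (Fin n)) : (Fin n → S) ≃* (Fin n → S) where
  toFun x := x ∘ σ
  invFun x := x ∘ σ.symm
  left_inv x := by funext i; simp
  right_inv x := by funext i; simp
  map_mul' _ _ := rfl

lemma permAut_mulSingle (j j' : Fin n) (s : S) :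
    permAut (Equiv.swap j j') (Pi.mulSingle j s) = Pi.mulSingle j' s := by
  funext i
  show (Pi.mulSingle j s : Fin n → S) (Equiv.swap j j' i) = (Pi.mulSingle j' s : Fin n → S) i
  rw [Pi.mulSingle_apply, Pi.mulSingle_apply]
  by_cases hi : i = j'
  · rw [hi]; simp
  · rw [if_neg hi, if_neg]
    intro h
    apply hi
    have := congrArg (Equiv.swap j j') h
    simpa using this

/-- a transvection-like automorphism of an abelian power -/
def transv (hcomm : ∀ a b : S, a * b = b * a) (i j : Fin n) (hij : i ≠ j) :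
    (Fin n → S) ≃* (Fin n → S) where
  toFun x := x * Pi.mulSingle j (x i)
  invFun x := x * Pi.mulSingle j (x i)⁻¹
  left_inv x := by
    funext k
    show (x * (Pi.mulSingle j (x i) : Fin n → S)) k *
      (Pi.mulSingle j ((x * (Pi.mulSingle j (x i) : Fin n → S)) i)⁻¹ : Fin n → S) k = x k
    by_cases hk : k = j
    · rw [hk]
      simp [Pi.mulSingle_eq_of_ne hij]
    · simp [Pi.mulSingle_eq_of_ne hk]
  right_inv x := by
    funext k
    show (x * (Pi.mulSingle j (x i)⁻¹ : Fin n → S)) k *
      (Pi.mulSingle j ((x * (Pi.mulSingle j (x i)⁻¹ : Fin n → S)) i) : Fin n → S) k = x k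
    by_cases hk : k = j
    · rw [hk]
      simp [Pi.mulSingle_eq_of_ne hij]
    · simp [Pi.mulSingle_eq_of_ne hk]
  map_mul' x y := by
    funext k
    show (x * y) k * (Pi.mulSingle j ((x * y) i) : Fin n → S) k
      = (x k * (Pi.mulSingle j (x i) : Fin n → S) k) * (y k * (Pi.mulSingle j (y i) : Fin n → S) k)
    by_cases hk : k = j
    · rw [hk]
      simp only [Pi.mul_apply, Pi.mulSingle_eq_same]
      calc x j * y j * (x i * y i) = x j * (y j * x i) * y i := by simp only [mul_assoc]
        _ = x j * (x i * y j) * y i := by rw [hcomm (y j) (x i)]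
        _ = x j * x i * (y j * y i) := by simp only [mul_assoc]
    · simp only [Pi.mul_apply, Pi.mulSingle_eq_of_ne hk, mul_one]

theorem pi_char [IsSimpleGroup S] (H : Subgroup (Fin n → S)) (hH : H.Characteristic) :
    H = ⊥ ∨ H = ⊤ := by
  classical
  by_cases hbot : H = ⊥
  · exact Or.inl hbot
  right
  have hHn : H.Normal := by haveI := hH; infer_instance
  have hfix : ∀ θ : (Fin n → S) ≃* (Fin n → S), ∀ x ∈ H, θ x ∈ H := by
    intro θ x hx
    have := Subgroup.characteristic_iff_le_comap.mp hH θ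
    exact this hx
  have hA : ∀ j : Fin n, (∃ s : S, s ≠ 1 ∧ Pi.mulSingle j s ∈ H) →
      ∀ s : S, Pi.mulSingle j s ∈ H := by
    rintro j ⟨s₀, hs₀, hs₀H⟩
    have hAn : (H.comap (MonoidHom.mulSingle (fun _ : Fin n => S) j)).Normal := hHn.comap _
    rcases hAn.eq_bot_or_eq_top with h | h
    · exfalso
      have : s₀ ∈ H.comap (MonoidHom.mulSingle (fun _ : Fin n => S) j) := hs₀H
      rw [h, Subgroup.mem_bot] at this
      exact hs₀ this
    · intro s
      have : s ∈ H.comap (MonoidHom.mulSingle (fun _ : Fin n => S) j) := by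
        rw [h]; exact Subgroup.mem_top _
      exact this
  obtain ⟨⟨h, hhH⟩, hne⟩ := (Subgroup.ne_bot_iff_exists_ne_one).mp hbot
  have hne' : h ≠ 1 := fun e => hne (Subtype.ext e)
  obtain ⟨i, hi⟩ := Function.ne_iff.mp hne'
  have hi' : h i ≠ 1 := hi
  have claim1 : ∃ j, ∃ s : S, s ≠ 1 ∧ Pi.mulSingle j s ∈ H := by
    by_cases hc : ∃ s : S, s * h i ≠ h i * s
    · obtain ⟨t, ht⟩ := hc
      refine ⟨i, t * h i * t⁻¹ * (h i)⁻¹, ?_, ?_⟩
      · intro e
        apply ht
        have := congrArg (fun z => z * h i * t) e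
        simpa [mul_assoc] using this
      · have hcomm : Pi.mulSingle i t * h * (Pi.mulSingle i t)⁻¹ * h⁻¹ ∈ H :=
          H.mul_mem (hHn.conj_mem _ hhH _) (H.inv_mem hhH)
        have heq : Pi.mulSingle i t * h * (Pi.mulSingle i t)⁻¹ * h⁻¹ =
            Pi.mulSingle i (t * h i * t⁻¹ * (h i)⁻¹) := by
          ext j
          by_cases hj : j = i
          · subst hj; simp
          · simp [Pi.mulSingle_eq_of_ne hj]
        rw [heq] at hcomm
        exact hcomm
    · push Not at hc
      have hcomm : ∀ a b : S, a * b = b * a := by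
        have hcen : Subgroup.center S = ⊤ := by
          rcases (inferInstance : (Subgroup.center S).Normal).eq_bot_or_eq_top with h0 | h0
          · exfalso
            have : h i ∈ Subgroup.center S := by
              rw [Subgroup.mem_center_iff]; intro g; exact hc g
            rw [h0, Subgroup.mem_bot] at this
            exact hi' this
          · exact h0
        intro a b
        have hb : b ∈ Subgroup.center S := by rw [hcen]; exact Subgroup.mem_top _
        exact Subgroup.mem_center_iff.mp hb a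
      by_cases hj : ∃ j : Fin n, i ≠ j
      · obtain ⟨j, hij⟩ := hj
        refine ⟨j, h i, hi', ?_⟩
        have h1 : transv hcomm i j hij h ∈ H := hfix _ h hhH
        have h2 : h⁻¹ * transv hcomm i j hij h ∈ H := H.mul_mem (H.inv_mem hhH) h1
        have h3 : h⁻¹ * transv hcomm i j hij h = Pi.mulSingle j (h i) := by
          show h⁻¹ * (h * Pi.mulSingle j (h i)) = _
          rw [inv_mul_cancel_left]
        rw [h3] at h2; exact h2
      · push Not at hj
        refine ⟨i, h i, hi', ?_⟩
        have : h = Pi.mulSingle i (h i) := by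
          funext k
          have hk := hj k
          subst hk
          simp
        rw [← this]; exact hhH
  obtain ⟨j, hj⟩ := claim1
  have hall := hA j hj
  have hall' : ∀ j' s, Pi.mulSingle j' s ∈ H := by
    intro j' s
    have := hfix (permAut (Equiv.swap j j')) _ (hall s)
    rwa [permAut_mulSingle] at this
  rw [eq_top_iff]
  intro x _
  rw [← Finset.noncommProd_mulSingle x]
  apply Subgroup.noncommProd_mem
  intro k _
  exact hall' k (x k)

end pi

theorem char_transport {G P : Type*} [Group G] [Group P] (ψ : G ≃* P)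
    (hP : ∀ H : Subgroup P, H.Characteristic → H = ⊥ ∨ H = ⊤)
    (H : Subgroup G) (hH : H.Characteristic) : H = ⊥ ∨ H = ⊤ := by
  have hH' : (H.comap ψ.symm.toMonoidHom).Characteristic := by
    rw [Subgroup.characteristic_iff_le_comap]
    intro φ x hx
    have h1 := Subgroup.characteristic_iff_le_comap.mp hH (ψ.trans (φ.trans ψ.symm))
    have h2 := h1 hx
    simp only [Subgroup.mem_comap, MulEquiv.coe_toMonoidHom, MulEquiv.trans_apply,
      MulEquiv.apply_symm_apply] at h2 ⊢
    exact h2
  rcases hP _ hH' with h | h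
  · left
    rw [eq_bot_iff]
    intro g hg
    have : ψ g ∈ H.comap ψ.symm.toMonoidHom := by
      simp only [Subgroup.mem_comap, MulEquiv.coe_toMonoidHom, MulEquiv.symm_apply_apply]
      exact hg
    rw [h, Subgroup.mem_bot] at this
    exact Subgroup.mem_bot.mpr ((MulEquiv.map_eq_one_iff ψ).mp this)
  · right
    rw [eq_top_iff]
    intro g _
    have : ψ g ∈ H.comap ψ.symm.toMonoidHom := by rw [h]; exact Subgroup.mem_top _
    simpa only [Subgroup.mem_comap, MulEquiv.coe_toMonoidHom, MulEquiv.symm_apply_apply] using this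

/-- good subgroups: normal, internal direct powers of `N` -/
def Good {G : Type*} [Group G] (N P : Subgroup G) : Prop :=
  P.Normal ∧ ∃ k : ℕ, ∃ ψ : (Fin k → ↥N) →* G, Function.Injective ψ ∧ ψ.range = P

theorem forward {G : Type*} [Group G] [Finite G] [Nontrivial G]
    (hchar : ∀ H : Subgroup G, H.Characteristic → H = ⊥ ∨ H = ⊤) :
    ∃ (S : Type) (_ : Group S) (_ : IsSimpleGroup S) (n : ℕ),
      1 ≤ n ∧ Nonempty (G ≃* (Fin n → S)) := by
  classical
  obtain ⟨N, hNn, hNne, hNmin⟩ : ∃ N : Subgroup G, N.Normal ∧ N ≠ ⊥ ∧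
      ∀ N' : Subgroup G, N'.Normal → N' ≠ ⊥ → Nat.card N ≤ Nat.card N' := by
    have hne : ∃ c, ∃ N : Subgroup G, N.Normal ∧ N ≠ ⊥ ∧ Nat.card N = c :=
      ⟨_, ⊤, inferInstance, top_ne_bot, rfl⟩
    obtain ⟨N, h1, h2, h3⟩ := Nat.find_spec hne
    refine ⟨N, h1, h2, fun N' h1' h2' => ?_⟩
    rw [h3]
    exact Nat.find_min' hne ⟨N', h1', h2', rfl⟩
  have hgood_bot : Good N ⊥ := by
    refine ⟨inferInstance, 0, 1, ?_, MonoidHom.range_one⟩
    intro x y _; exact Subsingleton.elim x y
  obtain ⟨P, hPgood, hPmax⟩ : ∃ P : Subgroup G, Good N P ∧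
      ∀ P' : Subgroup G, Good N P' → Nat.card P' ≤ Nat.card P := by
    have hne : ∃ c, ∃ P : Subgroup G, Good N P ∧ Nat.card G - Nat.card P = c :=
      ⟨_, ⊥, hgood_bot, rfl⟩
    obtain ⟨P, h1, h2⟩ := Nat.find_spec hne
    refine ⟨P, h1, fun P' h1' => ?_⟩
    have h3 := Nat.find_min' hne ⟨P', h1', rfl⟩
    rw [← h2] at h3
    have h4 : Nat.card P ≤ Nat.card G := Subgroup.card_le_card_group P
    have h5 : Nat.card P' ≤ Nat.card G := Subgroup.card_le_card_group P'
    omega
  obtain ⟨hPn, k, ψ, hψinj, hψrange⟩ := hPgood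
  have hPtop : P = ⊤ := by
    by_contra hPne
    have hC : (⨆ φ : G ≃* G, N.map φ.toMonoidHom).Characteristic := by
      rw [Subgroup.characteristic_iff_map_le]
      intro θ
      rw [Subgroup.map_le_iff_le_comap]
      apply iSup_le
      intro φ
      rintro _ ⟨x, hx, rfl⟩
      rw [Subgroup.mem_comap]
      have hle : N.map (φ.trans θ).toMonoidHom ≤ ⨆ φ : G ≃* G, N.map φ.toMonoidHom :=
        le_iSup (fun φ : G ≃* G => N.map φ.toMonoidHom) (φ.trans θ)
      exact hle (Subgroup.mem_map.mpr ⟨x, hx, rfl⟩)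
    have hCtop : (⨆ φ : G ≃* G, N.map φ.toMonoidHom) = ⊤ := by
      rcases hchar _ hC with h | h
      · exfalso
        apply hNne
        rw [eq_bot_iff, ← h]
        intro x hx
        exact (le_iSup (fun φ : G ≃* G => N.map φ.toMonoidHom) (MulEquiv.refl G))
          (Subgroup.mem_map.mpr ⟨x, hx, rfl⟩)
      · exact h
    have hex : ∃ φ : G ≃* G, ¬ N.map φ.toMonoidHom ≤ P := by
      by_contra hall
      push Not at hall
      apply hPne
      rw [eq_top_iff, ← hCtop]
      exact iSup_le hall
    obtain ⟨φ, hφ⟩ := hex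
    obtain ⟨Q, hQ⟩ : ∃ Q : Subgroup G, Q = N.map φ.toMonoidHom := ⟨_, rfl⟩
    rw [← hQ] at hφ
    have hQn : Q.Normal := by rw [hQ]; exact hNn.map _ φ.surjective
    have hQcard : Nat.card Q = Nat.card N := by
      rw [hQ]; exact Subgroup.card_map_of_injective (f := φ.toMonoidHom) φ.injective
    have hQmem : ∀ y : ↥N, φ (y : G) ∈ Q := by
      intro y; rw [hQ]; exact Subgroup.mem_map.mpr ⟨y, y.2, rfl⟩
    have hPmem : ∀ z, ψ z ∈ P := by
      intro z; rw [← hψrange]; exact MonoidHom.mem_range.mpr ⟨z, rfl⟩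
    have hPQ : Q ⊓ P = ⊥ := by
      by_contra hne
      haveI := hQn; haveI := hPn
      have h1 : Nat.card N ≤ Nat.card ↥(Q ⊓ P) := hNmin _ inferInstance hne
      have h2 : Q ⊓ P = Q :=
        Subgroup.eq_of_le_of_card_ge inf_le_left (by rw [hQcard]; exact h1)
      apply hφ
      exact h2.symm.le.trans inf_le_right
    have hdisj : Disjoint P Q := by rw [disjoint_iff, inf_comm]; exact hPQ
    have hcomm : ∀ (z : Fin k → ↥N) (y : ↥N), Commute (ψ z) (φ (y : G)) := by
      intro z y
      exact Subgroup.commute_of_normal_of_disjoint P Q hPn hQn hdisj _ _ (hPmem z) (hQmem y)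
    let ψ' : (Fin (k+1) → ↥N) →* G :=
      { toFun := fun x => ψ (Fin.tail x) * φ (x 0 : G)
        map_one' := by
          show ψ (Fin.tail (1 : Fin (k+1) → ↥N)) * φ (((1 : Fin (k+1) → ↥N) 0 : ↥N) : G) = 1
          have : Fin.tail (1 : Fin (k+1) → ↥N) = 1 := rfl
          rw [this, map_one]; simp
        map_mul' := by
          intro x y
          show ψ (Fin.tail (x * y)) * φ (((x * y) 0 : ↥N) : G)
            = ψ (Fin.tail x) * φ (x 0 : G) * (ψ (Fin.tail y) * φ (y 0 : G))
          have h1 : Fin.tail (x * y) = Fin.tail x * Fin.tail y := rfl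
          have h2 : (((x * y) 0 : ↥N) : G) = (x 0 : G) * (y 0 : G) := rfl
          rw [h1, h2, map_mul, map_mul]
          have hc := (hcomm (Fin.tail y) (x 0)).eq
          calc ψ (Fin.tail x) * ψ (Fin.tail y) * (φ (x 0 : G) * φ (y 0 : G))
              = ψ (Fin.tail x) * (ψ (Fin.tail y) * φ (x 0 : G)) * φ (y 0 : G) := by
                simp only [mul_assoc]
            _ = ψ (Fin.tail x) * (φ (x 0 : G) * ψ (Fin.tail y)) * φ (y 0 : G) := by rw [hc]
            _ = ψ (Fin.tail x) * φ (x 0 : G) * (ψ (Fin.tail y) * φ (y 0 : G)) := by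
                simp only [mul_assoc] }
    have hψ'apply : ∀ x, ψ' x = ψ (Fin.tail x) * φ (x 0 : G) := fun x => rfl
    have hψ'inj : Function.Injective ψ' := by
      rw [injective_iff_map_eq_one]
      intro x hx
      rw [hψ'apply] at hx
      have h1 : ψ (Fin.tail x) ∈ P := hPmem _
      have h2 : φ (x 0 : G) ∈ Q := hQmem _
      have h3 : ψ (Fin.tail x) = (φ (x 0 : G))⁻¹ := eq_inv_of_mul_eq_one_left hx
      have h4 : ψ (Fin.tail x) ∈ Q ⊓ P :=
        Subgroup.mem_inf.mpr ⟨by rw [h3]; exact Q.inv_mem h2, h1⟩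
      rw [hPQ, Subgroup.mem_bot] at h4
      have h5 : Fin.tail x = 1 := by
        apply hψinj; rw [h4, map_one]
      have h6 : φ (x 0 : G) = 1 := by rw [h4, one_mul] at hx; exact hx
      have h7 : x 0 = 1 := by
        have : (x 0 : G) = 1 := φ.injective (h6.trans (map_one φ).symm)
        exact Subtype.ext this
      funext i
      refine Fin.cases ?_ (fun i' => ?_) i
      · exact h7
      · exact congrFun h5 i'
    have hψ'range : ψ'.range = P ⊔ Q := by
      apply le_antisymm
      · intro y hy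
        obtain ⟨x, rfl⟩ := MonoidHom.mem_range.mp hy
        rw [hψ'apply]
        apply Subgroup.mul_mem
        · exact Subgroup.mem_sup_left (hPmem _)
        · exact Subgroup.mem_sup_right (hQmem _)
      · apply sup_le
        · rw [← hψrange]
          intro y hy
          obtain ⟨z, rfl⟩ := MonoidHom.mem_range.mp hy
          refine MonoidHom.mem_range.mpr ⟨(Fin.cons (1 : ↥N) z : Fin (k+1) → ↥N), ?_⟩
          rw [hψ'apply, Fin.tail_cons, Fin.cons_zero]
          simp
        · rw [hQ]
          intro y hy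
          obtain ⟨y0, hy0, rfl⟩ := Subgroup.mem_map.mp hy
          refine MonoidHom.mem_range.mpr
            ⟨(Fin.cons (⟨y0, hy0⟩ : ↥N) (1 : Fin k → ↥N) : Fin (k+1) → ↥N), ?_⟩
          rw [hψ'apply, Fin.tail_cons, Fin.cons_zero, map_one, one_mul]
          rfl
    have hgood' : Good N (P ⊔ Q) := by
      haveI := hPn; haveI := hQn
      exact ⟨inferInstance, k+1, ψ', hψ'inj, hψ'range⟩
    have h1 := hPmax _ hgood'
    have h2 : P = P ⊔ Q := Subgroup.eq_of_le_of_card_ge le_sup_left h1
    apply hφ
    exact le_sup_right.trans h2.symm.le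
  subst hPtop
  have hψsurj : Function.Surjective ψ := MonoidHom.range_eq_top.mp hψrange
  let Ψ : (Fin k → ↥N) ≃* G := MulEquiv.ofBijective ψ ⟨hψinj, hψsurj⟩
  have hk : 1 ≤ k := by
    by_contra hk0
    have hk0' : k = 0 := by omega
    subst hk0'
    have : Subsingleton G := Ψ.symm.injective.subsingleton
    exact not_subsingleton G this
  haveI hNnt : Nontrivial ↥N := (Subgroup.nontrivial_iff_ne_bot N).mpr hNne
  have hNsimple : IsSimpleGroup ↥N := by
    refine { toNontrivial := hNnt, eq_bot_or_eq_top_of_normal := ?_ }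
    intro A hA
    have hι : ∃ i0 : Fin k, True := ⟨⟨0, hk⟩, trivial⟩
    obtain ⟨i0, -⟩ := hι
    have hιinj : Function.Injective (MonoidHom.mulSingle (fun _ : Fin k => ↥N) i0) := by
      intro a b hab
      have := congrFun hab i0
      simpa using this
    have hAι : (A.map (MonoidHom.mulSingle (fun _ : Fin k => ↥N) i0)).Normal := by
      constructor
      intro y hy g
      obtain ⟨a, ha, rfl⟩ := Subgroup.mem_map.mp hy
      refine Subgroup.mem_map.mpr ⟨g i0 * a * (g i0)⁻¹, hA.conj_mem a ha (g i0), ?_⟩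
      funext j
      by_cases hj : j = i0
      · rw [hj]; simp
      · simp [Pi.mulSingle_eq_of_ne hj]
    have hB : ((A.map (MonoidHom.mulSingle (fun _ : Fin k => ↥N) i0)).map ψ).Normal :=
      hAι.map ψ hψsurj
    have hBcard : Nat.card ((A.map (MonoidHom.mulSingle (fun _ : Fin k => ↥N) i0)).map ψ)
        = Nat.card A := by
      rw [Subgroup.card_map_of_injective hψinj, Subgroup.card_map_of_injective hιinj]
    by_cases hAbot : A = ⊥
    · exact Or.inl hAbot
    · right
      have hBne : (A.map (MonoidHom.mulSingle (fun _ : Fin k => ↥N) i0)).map ψ ≠ ⊥ := by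
        intro h
        apply hAbot
        apply Subgroup.eq_bot_of_card_eq
        rw [← hBcard, h]; simp
      have h1 := hNmin _ hB hBne
      rw [hBcard] at h1
      exact Subgroup.eq_top_of_le_card A h1
  haveI := hNsimple
  have hSsimple : IsSimpleGroup (Shrink.{0} ↥N) :=
    MulEquiv.isSimpleGroup (Shrink.mulEquiv : Shrink.{0} ↥N ≃* ↥N)
  refine ⟨Shrink.{0} ↥N, inferInstance, hSsimple, k, hk, ⟨?_⟩⟩
  exact Ψ.symm.trans
    (MulEquiv.piCongrRight (fun _ => (Shrink.mulEquiv : Shrink.{0} ↥N ≃* ↥N).symm))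

/-- A non-trivial finite group G is characteristically simple (its only characteristic subgroups are 1 and G) if and only if G is isomorphic to a direct power S^n (n ≥ 1) of some simple group S (possibly cyclic of prime order). -/
theorem result {G : Type*} [Group G] [Finite G] [Nontrivial G] :
    (∀ H : Subgroup G, H.Characteristic → H = ⊥ ∨ H = ⊤) ↔
    ∃ (S : Type) (_ : Group S) (_ : IsSimpleGroup S) (n : ℕ), 1 ≤ n ∧ Nonempty (G ≃* (Fin n → S)) := by
  constructor
  · exact forward
  · rintro ⟨S, hG, hS, n, hn, ⟨ψ⟩⟩ H hH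
    exact char_transport ψ (fun H' hH' => pi_char H' hH') H hH

end Cfsg.Agent.S5914
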