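import Cfsg.Statements.S5938
-- import your own Cfsg.Agent.* helpers here
import Mathlib
import Cfsg.Agent.Lib_helper4_DnV
import Cfsg.Agent.S0803

set_option autoImplicit false
open Cfsg

namespace Cfsg.Agent.S5938

open Matrix
open Cfsg.Agent.helper4.Dk Cfsg.Agent.helper4.Dn


/-- Let p be a prime with p ≡ ±1 (mod 8) and F a field with p elements. Then PSL_2(F) has a maximal subgroup isomorphic to the symmetric group S_4. -/
theorem result {F : Type*} [Field F] [Fintype F] (p : ℕ) [Fact p.Prime] (hF : Fintype.card F = p) (hp : p % 8 = 1 ∨ p % 8 = 7) : ∃ H : Subgroup (Matrix.ProjectiveSpecialLinearGroup (Fin 2) F), IsCoatom H ∧ Nonempty (H ≃* Equiv.Perm (Fin 4)) := by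
  classical
  have hpp : p.Prime := Fact.out
  have h16 : p ^ 2 % 16 = 1 := by
    rw [Nat.pow_mod]
    have : p % 16 = 1 ∨ p % 16 = 7 ∨ p % 16 = 9 ∨ p % 16 = 15 := by omega
    rcases this with h | h | h | h <;> rw [h]
  obtain ⟨H, ⟨e⟩⟩ := (Cfsg.Agent.S0803.result hF).mpr h16
  refine ⟨H, ?_, ⟨e⟩⟩
  have hp7 : 7 ≤ p := by
    have := hpp.two_le
    omega
  have hodd : Odd (Fintype.card F) := by
    rw [hF]; exact hpp.odd_of_ne_two (by omega)
  have hcardH : Nat.card H = 24 := by
    rw [Nat.card_congr e.toEquiv, Nat.card_perm, Nat.card_fin]; rfl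
  apply isCoatom_of_comap
  · intro htop
    rw [htop, Subgroup.card_top] at hcardH
    have h1 := card_SL2_eq_two_mul hodd
    rw [hcardH, Cfsg.Agent.helper12.card_SL2, hF] at h1
    have := mono_cube hp7
    norm_num at this
    omega
  · intro Mt hlt
    obtain ⟨hdvd, hlt', hcases⟩ := over_cases hodd H (Wit.of_equiv e wit_S4) Mt hlt
    rw [hcardH] at hdvd hlt'
    apply top_of_card_ge
    rw [hF]
    rcases hcases with ⟨q₁, c, k, s, n, hPar⟩ | h | h | h
    · rw [hF] at hPar
      exact par_prime hpp (by omega) hPar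
    · omega
    · omega
    · rw [h] at hdvd; norm_num at hdvd

end Cfsg.Agent.S5938
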