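import Cfsg.Statements.S5939
-- import your own Cfsg.Agent.* helpers here
import Mathlib
import Cfsg.Agent.Lib_helper4_DnV
import Cfsg.Agent.S0804

set_option autoImplicit false
open Cfsg

namespace Cfsg.Agent.S5939

open Matrix
open Cfsg.Agent.helper4.Dk Cfsg.Agent.helper4.Dn

theorem no5 {p : ℕ} (hpp : p.Prime) (h : p % 10 = 3 ∨ p % 10 = 7) : ¬ 5 ∣ p * (p ^ 2 - 1) := by
  intro h5d
  have hp1 : 1 ≤ p ^ 2 := Nat.one_le_pow _ _ (by have := hpp.two_le; omega)
  rcases (Nat.Prime.dvd_mul Nat.prime_five).mp h5d with h' | h'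
  · have : p = 5 := ((Nat.prime_dvd_prime_iff_eq Nat.prime_five hpp).mp h').symm
    omega
  · obtain ⟨t, ht⟩ := h'
    have h4 : p ^ 2 % 5 = 1 := by omega
    rw [Nat.pow_mod] at h4
    have : p % 5 = 2 ∨ p % 5 = 3 := by omega
    rcases this with h | h <;> rw [h] at h4 <;> norm_num at h4


/-- Let p be a prime and F a finite field of characteristic p such that either F has p elements and p ≡ ±1 (mod 10), or F has p² elements and p ≡ ±3 (mod 10). Then PSL_2(F) has a maximal subgroup isomorphic to the alternating group A_5. -/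
theorem result {F : Type*} [Field F] [Fintype F] (p : ℕ) [Fact p.Prime] [CharP F p] (h : (Fintype.card F = p ∧ (p % 10 = 1 ∨ p % 10 = 9)) ∨ (Fintype.card F = p ^ 2 ∧ (p % 10 = 3 ∨ p % 10 = 7))) : ∃ H : Subgroup (Matrix.ProjectiveSpecialLinearGroup (Fin 2) F), IsCoatom H ∧ Nonempty (H ≃* alternatingGroup (Fin 5)) := by
  classical
  have hpp : p.Prime := Fact.out
  have hp2 := hpp.two_le
  have hpodd : Odd p := hpp.odd_of_ne_two (by rcases h with ⟨_, h⟩ | ⟨_, h⟩ <;> omega)
  have hp3 : 3 ≤ p := by rcases h with ⟨_, h⟩ | ⟨_, h⟩ <;> omega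
  have hodd : Odd (Fintype.card F) := by
    rcases h with ⟨hF, _⟩ | ⟨hF, _⟩
    · rw [hF]; exact hpodd
    · rw [hF]; exact hpodd.pow
  have hq9 : 9 ≤ Fintype.card F := by
    rcases h with ⟨hF, h⟩ | ⟨hF, h⟩
    · rw [hF]; omega
    · rw [hF]; nlinarith
  have hq1 : 1 ≤ Fintype.card F ^ 2 := Nat.one_le_pow _ _ (by omega)
  have h5 : 5 ∣ Fintype.card F * (Fintype.card F ^ 2 - 1) := by
    apply dvd_mul_of_dvd_right
    apply Nat.dvd_of_mod_eq_zero
    have hmod : Fintype.card F ^ 2 % 5 = 1 := by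
      rcases h with ⟨hF, h⟩ | ⟨hF, h⟩
      · rw [hF, Nat.pow_mod]
        have : p % 5 = 1 ∨ p % 5 = 4 := by omega
        rcases this with h | h <;> rw [h]
      · rw [hF, Nat.pow_mod, Nat.pow_mod p]
        have : p % 5 = 2 ∨ p % 5 = 3 := by omega
        rcases this with h | h <;> rw [h]
    omega
  obtain ⟨H, ⟨e⟩⟩ := (Cfsg.Agent.S0804.result (F := F) rfl).mpr h5
  refine ⟨H, ?_, ⟨e⟩⟩
  have hcardH : Nat.card H = 60 := by
    rw [Nat.card_congr e.toEquiv, nat_card_alternatingGroup, Nat.card_fin]; rfl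
  apply isCoatom_of_comap
  · intro htop
    rw [htop, Subgroup.card_top] at hcardH
    have h1 := card_SL2_eq_two_mul hodd
    rw [hcardH, Cfsg.Agent.helper12.card_SL2] at h1
    have := mono_cube hq9
    norm_num at this
    omega
  · intro Mt hlt
    obtain ⟨hdvd, hlt', hcases⟩ := over_cases hodd H (Wit.of_equiv e wit_A5) Mt hlt
    rw [hcardH] at hdvd hlt'
    apply top_of_card_ge
    rcases hcases with ⟨q₁, c, k, s, n, hPar⟩ | h' | h' | h'
    · rcases h with ⟨hF, h⟩ | ⟨hF, h⟩
      · rw [hF] at hPar ⊢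
        exact par_prime hpp (by omega) hPar
      · rw [hF] at hPar ⊢
        have key : ∀ q₁, 3 ≤ q₁ → q₁ ∣ p ^ 2 → q₁ = p ∨ q₁ = p ^ 2 := by
          intro q₁ h3 hd
          obtain ⟨a, ha, rfl⟩ := (Nat.dvd_prime_pow hpp).mp hd
          interval_cases a
          · rw [pow_zero] at h3; omega
          · left; rw [pow_one]
          · right; rfl
        rcases par_odd (hpodd.pow) hPar with ⟨h3, hN, h10⟩ | ⟨h3, hq₁, hN, hs⟩ | ⟨h3, hq₁, hN, hs⟩
        · omega
        · rcases key q₁ h3 hq₁ with hq | hq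
          · exfalso
            rw [hq, x_cube_id _ (by omega)] at hN
            rw [hN] at hdvd
            exact no5 hpp h ((by norm_num : 5 ∣ 2 * 60).trans hdvd)
          · rw [hq, x_cube_id _ (by rw [← hq]; omega)] at hN
            omega
        · rcases key q₁ h3 hq₁ with hq | hq
          · exfalso
            rw [hq, x_cube_id _ (by omega)] at hN
            rw [hN] at hdvd
            have h5d : 5 ∣ 2 * (p * (p ^ 2 - 1)) := (by norm_num : 5 ∣ 2 * 60).trans hdvd
            rcases (Nat.Prime.dvd_mul Nat.prime_five).mp h5d with h'' | h''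
            · norm_num at h''
            · exact no5 hpp h h''
          · rw [hq, x_cube_id _ (by rw [← hq]; omega)] at hN
            omega
    · omega
    · omega
    · omega

end Cfsg.Agent.S5939
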