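import Cfsg.Statements.S5940
-- import your own Cfsg.Agent.* helpers here
import Mathlib
import Cfsg.Agent.Lib_helper4_DnV
import Cfsg.Agent.S0802

set_option autoImplicit false
open Cfsg

namespace Cfsg.Agent.S5940

open Matrix
open Cfsg.Agent.helper4.Dk Cfsg.Agent.helper4.Dn


/-- Let p ≥ 5 be a prime with p ≡ ±3 (mod 8) and p ≢ ±1 (mod 10), and F a field with p elements. Then PSL_2(F) has a maximal subgroup isomorphic to the alternating group A_4. -/
theorem result {F : Type*} [Field F] [Fintype F] (p : ℕ) [Fact p.Prime] (hF : Fintype.card F = p) (h5 : 5 ≤ p) (h8 : p % 8 = 3 ∨ p % 8 = 5) (h10 : p % 10 ≠ 1 ∧ p % 10 ≠ 9) : ∃ H : Subgroup (Matrix.ProjectiveSpecialLinearGroup (Fin 2) F), IsCoatom H ∧ Nonempty (H ≃* alternatingGroup (Fin 4)) := by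
  classical
  have hpp : p.Prime := Fact.out
  haveI : CharP F p := charP_of_card_eq_prime hF
  obtain ⟨H, ⟨e⟩⟩ := (Cfsg.Agent.S0802.result (F := F) p 1 (by rw [hF, pow_one])).mpr
    (fun h => by omega)
  refine ⟨H, ?_, ⟨e⟩⟩
  have hpodd : Odd p := hpp.odd_of_ne_two (by omega)
  have hodd : Odd (Fintype.card F) := by rw [hF]; exact hpodd
  have hcardH : Nat.card H = 12 := by
    rw [Nat.card_congr e.toEquiv, nat_card_alternatingGroup, Nat.card_fin]; rfl
  have hp1 : 1 ≤ p ^ 2 := Nat.one_le_pow _ _ (by omega)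
  apply isCoatom_of_comap
  · intro htop
    rw [htop, Subgroup.card_top] at hcardH
    have h1 := card_SL2_eq_two_mul hodd
    rw [hcardH, Cfsg.Agent.helper12.card_SL2, hF] at h1
    have := mono_cube h5
    norm_num at this
    omega
  · intro Mt hlt
    obtain ⟨hdvd, hlt', hcases⟩ := over_cases hodd H (Wit.of_equiv e wit_A4) Mt hlt
    rw [hcardH] at hdvd hlt'
    have hdS := card_dvd_SL2' Mt
    rw [hF] at hdS
    apply top_of_card_ge
    rw [hF]
    rcases hcases with ⟨q₁, c, k, s, n, hPar⟩ | h | h | h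
    · rw [hF] at hPar
      exact par_prime hpp h5 hPar
    · omega
    · exfalso
      rw [h] at hdS
      have h16 : 16 ∣ p * (p ^ 2 - 1) := (by norm_num : 16 ∣ 48).trans hdS
      have hcop : Nat.Coprime 16 p := by
        have : Nat.Coprime 2 p := Nat.coprime_two_left.mpr hpodd
        exact Nat.Coprime.pow_left 4 this
      have h3 := hcop.dvd_of_dvd_mul_left h16
      obtain ⟨t, ht⟩ := h3
      have h4 : p ^ 2 % 16 = 1 := by omega
      rw [Nat.pow_mod] at h4
      have : p % 16 = 3 ∨ p % 16 = 5 ∨ p % 16 = 11 ∨ p % 16 = 13 := by omega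
      rcases this with h | h | h | h <;> rw [h] at h4 <;> norm_num at h4
    · rw [h] at hdS
      have h5d : 5 ∣ p * (p ^ 2 - 1) := (by norm_num : 5 ∣ 120).trans hdS
      rcases (Nat.Prime.dvd_mul Nat.prime_five).mp h5d with h' | h'
      · have : p = 5 := ((Nat.prime_dvd_prime_iff_eq Nat.prime_five hpp).mp h').symm
        rw [h, this]
        norm_num
      · exfalso
        obtain ⟨t, ht⟩ := h'
        have h4 : p ^ 2 % 5 = 1 := by omega
        rw [Nat.pow_mod] at h4
        have : p % 5 = 0 ∨ p % 5 = 1 ∨ p % 5 = 2 ∨ p % 5 = 3 ∨ p % 5 = 4 := by omega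
        obtain ⟨u, hu⟩ := hpodd
        rcases this with h | h | h | h | h <;> rw [h] at h4 <;> norm_num at h4 <;> omega

end Cfsg.Agent.S5940
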