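import Cfsg.Statements.S5941
-- import your own Cfsg.Agent.* helpers here
import Mathlib
import Cfsg.Agent.Lib_helper4_DnS
import Cfsg.Agent.S0805

set_option autoImplicit false
open Cfsg

namespace Cfsg.Agent.S5941

open Matrix
open scoped MatrixGroups
open Cfsg.Agent.helper4.Dk Cfsg.Agent.helper4.Dn


/-- Let K and F be finite fields of odd characteristic with #F = (#K)². Then PSL_2(F) has a maximal subgroup isomorphic to PGL_2(K). -/
theorem result {F K : Type*} [Field F] [Fintype F] [Field K] [Fintype K] (q : ℕ) (hK : Fintype.card K = q) (hF : Fintype.card F = q ^ 2) (hq : Odd q) : ∃ H : Subgroup (Matrix.ProjectiveSpecialLinearGroup (Fin 2) F), IsCoatom H ∧ Nonempty (H ≃* Matrix.ProjGenLinGroup (Fin 2) K) := by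
  classical
  subst hK
  obtain ⟨ι⟩ := Cfsg.Agent.S0805.exists_ringHom (F := F) (K := K) 2 hF.symm
  obtain ⟨p, hpK⟩ := CharP.exists K
  obtain ⟨b, hp, hb⟩ := FiniteField.card K p
  have hp2 : p ≠ 2 := by
    rintro rfl
    rw [hb] at hq
    exact (Nat.not_even_iff_odd.mpr hq) ((Nat.even_pow.mpr ⟨even_two, b.ne_zero⟩))
  have hb1 : 1 ≤ (b : ℕ) := b.pos
  have hFodd : Odd (Fintype.card F) := by rw [hF]; exact hq.pow
  have hKF : Fintype.card F = (p ^ (b : ℕ)) ^ 2 := by rw [hF, hb]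
  have hsq : ∀ d : K, d ≠ 0 → IsSquare (ι d) :=
    Cfsg.Agent.S0805.isSquare_of_even ι 1 le_rfl hF.symm hFodd
  obtain ⟨j, hj⟩ : ∃ j : GL (Fin 2) K →* ProjGenLinGroup (Fin 2) F,
      j = (ProjGenLinGroup.mk : GL (Fin 2) F →* ProjGenLinGroup (Fin 2) F).comp
        (GeneralLinearGroup.map ι) := ⟨_, rfl⟩
  have hker : j.ker = Subgroup.center (GL (Fin 2) K) := by
    rw [hj]; exact Cfsg.Agent.S0805.ker_gl_map ι
  have hle : j.range ≤ (ProjectiveSpecialLinearGroup.toPGL :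
      ProjectiveSpecialLinearGroup (Fin 2) F →* ProjGenLinGroup (Fin 2) F).range := by
    rw [hj]; exact Cfsg.Agent.S0805.range_le ι hsq
  obtain ⟨H, hH⟩ : ∃ H : Subgroup (ProjectiveSpecialLinearGroup (Fin 2) F),
      H = j.range.comap ProjectiveSpecialLinearGroup.toPGL := ⟨_, rfl⟩
  have hiso : Nonempty (H ≃* Matrix.ProjGenLinGroup (Fin 2) K) := by
    rw [hH]
    have e1 : j.range.comap (ProjectiveSpecialLinearGroup.toPGL :
        ProjectiveSpecialLinearGroup (Fin 2) F →* ProjGenLinGroup (Fin 2) F) ≃* j.range := by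
      apply MulEquiv.ofBijective ((ProjectiveSpecialLinearGroup.toPGL :
        ProjectiveSpecialLinearGroup (Fin 2) F →* ProjGenLinGroup (Fin 2) F).subgroupComap j.range)
      constructor
      · intro a b hab
        apply Subtype.ext
        apply ProjectiveSpecialLinearGroup.toPGL_injective
        exact congrArg Subtype.val hab
      · rintro ⟨y, hy⟩
        obtain ⟨x, rfl⟩ := hle hy
        exact ⟨⟨x, hy⟩, rfl⟩
    have e2 : (GL (Fin 2) K ⧸ Subgroup.center (GL (Fin 2) K)) ≃* j.range :=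
      (QuotientGroup.quotientMulEquivOfEq hker.symm).trans (QuotientGroup.quotientKerEquivRange j)
    exact ⟨e1.trans e2.symm⟩
  have hcardH : Nat.card H = p ^ (b : ℕ) * ((p ^ (b : ℕ)) ^ 2 - 1) := by
    obtain ⟨e⟩ := hiso
    rw [Nat.card_congr e.toEquiv, Cfsg.Agent.helper2.card_PGL_eq_card_SL,
      Cfsg.Agent.helper12.card_SL2, hb]
  have hcardHt : Nat.card (H.comap (piF F)) = 2 * (p ^ (b : ℕ) * ((p ^ (b : ℕ)) ^ 2 - 1)) := by
    rw [card_comap_piF hFodd, hcardH]
  -- the subfield `SL₂`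
  have hsub : (SpecialLinearGroup.map (n := Fin 2) ι).range ≤ H.comap (piF F) := by
    rintro _ ⟨a, rfl⟩
    rw [Subgroup.mem_comap, hH, Subgroup.mem_comap]
    refine ⟨SpecialLinearGroup.toGL a, ?_⟩
    rw [hj, MonoidHom.comp_apply]
    change _ = ProjGenLinGroup.mk (SpecialLinearGroup.toGL (SpecialLinearGroup.map ι a))
    congr 1
    apply Units.ext
    ext i j
    rfl
  have hq₀3 : 3 ≤ Fintype.card K := by
    have h2 : 2 ≤ Fintype.card K := Fintype.one_lt_card
    rcases hq with ⟨t, ht⟩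
    omega
  refine ⟨H, ?_, hiso⟩
  apply isCoatom_of_comap
  · intro htop
    rw [htop, Subgroup.card_top] at hcardH
    have h1 := card_SL2_eq_two_mul hFodd
    rw [hcardH, Cfsg.Agent.helper12.card_SL2, hKF, ← hb] at h1
    obtain ⟨X, hX⟩ : ∃ X, X = Fintype.card K := ⟨_, rfl⟩
    rw [← hX] at h1 hq₀3
    have h3 : X ^ 2 - 1 < (X ^ 2) ^ 2 - 1 := by
      have h9 : 9 ≤ X ^ 2 := by nlinarith
      have : X ^ 2 < (X ^ 2) ^ 2 := by nlinarith
      omega
    have h4 : 2 * X < X ^ 2 := by nlinarith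
    have h5 : 1 ≤ X ^ 2 - 1 := by
      have h9 : 9 ≤ X ^ 2 := by nlinarith
      omega
    have : 2 * X * (X ^ 2 - 1) < X ^ 2 * ((X ^ 2) ^ 2 - 1) := Nat.mul_lt_mul'' h4 h3
    have e : 2 * (X * (X ^ 2 - 1)) = 2 * X * (X ^ 2 - 1) := by ring
    omega
  · intro Mt hlt
    have hu : uS (1 : F) ∈ Mt := by
      apply hlt.le
      apply hsub
      exact ⟨uS 1, by rw [slmap_uS, map_one]⟩
    have hw : wS (0 : F) ∈ Mt := by
      apply hlt.le
      apply hsub
      exact ⟨wS 0, by rw [slmap_wS, map_zero]⟩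
    have hneg : -1 ∈ Mt := by
      apply hlt.le
      apply hsub
      exact ⟨-1, slmap_neg_one ι⟩
    have hdvd : 2 * (p ^ (b : ℕ) * ((p ^ (b : ℕ)) ^ 2 - 1)) ∣ Nat.card Mt := by
      rw [← hcardHt]; exact Subgroup.card_dvd_of_le hlt.le
    have hlt' : 2 * (p ^ (b : ℕ) * ((p ^ (b : ℕ)) ^ 2 - 1)) < Nat.card Mt := by
      rw [← hcardHt]
      by_contra hge
      push Not at hge
      exact hlt.ne (Subgroup.eq_of_le_of_card_ge hlt.le hge)
    exact sub_top_two hp hp2 hb1 hKF Mt hneg hu hw hdvd hlt'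

end Cfsg.Agent.S5941
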