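import Cfsg.Statements.S5942
-- import your own Cfsg.Agent.* helpers here
import Mathlib
import Cfsg.Agent.Lib_helper4_DnS
import Cfsg.Agent.S0805

set_option autoImplicit false
open Cfsg

namespace Cfsg.Agent.S5942

open Matrix
open Cfsg.Agent.helper4.Dk Cfsg.Agent.helper4.Dn


/-- Let K and F be finite fields of odd characteristic with #F = (#K)^r for an odd prime r. Then PSL_2(F) has a maximal subgroup isomorphic to PSL_2(K). -/
theorem result {F K : Type*} [Field F] [Fintype F] [Field K] [Fintype K] (q r : ℕ) (hK : Fintype.card K = q) (hF : Fintype.card F = q ^ r) (hq : Odd q) (hr : r.Prime) (hr2 : r ≠ 2) : ∃ H : Subgroup (Matrix.ProjectiveSpecialLinearGroup (Fin 2) F), IsCoatom H ∧ Nonempty (H ≃* Matrix.ProjectiveSpecialLinearGroup (Fin 2) K) := by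
  classical
  subst hK
  obtain ⟨ι⟩ := Cfsg.Agent.S0805.exists_ringHom (F := F) (K := K) r hF.symm
  obtain ⟨p, hpK⟩ := CharP.exists K
  obtain ⟨b, hp, hb⟩ := FiniteField.card K p
  have hp2 : p ≠ 2 := by
    rintro rfl
    rw [hb] at hq
    exact (Nat.not_even_iff_odd.mpr hq) ((Nat.even_pow.mpr ⟨even_two, b.ne_zero⟩))
  have hb1 : 1 ≤ (b : ℕ) := b.pos
  have hFodd : Odd (Fintype.card F) := by rw [hF]; exact hq.pow
  have hKF : Fintype.card F = (p ^ (b : ℕ)) ^ r := by rw [hF, hb]
  obtain ⟨φ, hφ⟩ : ∃ φ : SpecialLinearGroup (Fin 2) K →* Matrix.ProjectiveSpecialLinearGroup (Fin 2) F,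
      φ = (piF F).comp (SpecialLinearGroup.map ι) := ⟨_, rfl⟩
  have hker : φ.ker = Subgroup.center (SpecialLinearGroup (Fin 2) K) := by
    rw [hφ]; exact Cfsg.Agent.S0805.ker_sl_map ι
  have hiso : Nonempty (φ.range ≃* Matrix.ProjectiveSpecialLinearGroup (Fin 2) K) :=
    ⟨((QuotientGroup.quotientMulEquivOfEq hker.symm).trans
      (QuotientGroup.quotientKerEquivRange φ)).symm⟩
  -- the preimage of the range
  have hcomap : φ.range.comap (piF F) = (SpecialLinearGroup.map (n := Fin 2) ι).range := by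
    ext g
    rw [Subgroup.mem_comap]
    constructor
    · rintro ⟨a, ha⟩
      rw [hφ, MonoidHom.comp_apply] at ha
      have h1 : piF F ((SpecialLinearGroup.map ι a)⁻¹ * g) = 1 := by
        rw [map_mul, map_inv, ha, inv_mul_cancel]
      rcases (piF_eq_one_iff _).mp h1 with h | h
      · refine ⟨a, ?_⟩
        have := inv_mul_eq_one.mp h
        exact this
      · refine ⟨a * -1, ?_⟩
        rw [map_mul, slmap_neg_one]
        have : g = SpecialLinearGroup.map ι a * -1 := by
          rw [← h]; group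
        exact this.symm
    · rintro ⟨a, rfl⟩
      exact ⟨a, by rw [hφ, MonoidHom.comp_apply]⟩
  have hcardR : Nat.card (SpecialLinearGroup.map (n := Fin 2) ι).range =
      p ^ (b : ℕ) * ((p ^ (b : ℕ)) ^ 2 - 1) := by
    rw [← hb, ← Cfsg.Agent.helper12.card_SL2]
    exact (Nat.card_congr (MonoidHom.ofInjective (slmap_injective ι)).toEquiv).symm
  have hq₀3 : 3 ≤ Fintype.card K := by
    have h2 : 2 ≤ Fintype.card K := Fintype.one_lt_card
    rcases hq with ⟨t, ht⟩
    omega
  refine ⟨φ.range, ?_, hiso⟩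
  apply isCoatom_of_comap
  · intro htop
    have h1 : φ.range.comap (piF F) = ⊤ := by rw [htop, Subgroup.comap_top]
    rw [hcomap] at h1
    have h2 : Nat.card (SpecialLinearGroup.map (n := Fin 2) ι).range =
        Nat.card (SpecialLinearGroup (Fin 2) F) := by rw [h1, Subgroup.card_top]
    rw [hcardR, Cfsg.Agent.helper12.card_SL2, hKF, ← hb] at h2
    have hr2' : 2 ≤ r := hr.two_le
    have hlt : Fintype.card K < Fintype.card K ^ r := by
      calc Fintype.card K = Fintype.card K ^ 1 := (pow_one _).symm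
        _ < Fintype.card K ^ r := Nat.pow_lt_pow_right (by omega) (by omega)
    obtain ⟨X, hX⟩ : ∃ X, X = Fintype.card K := ⟨_, rfl⟩
    obtain ⟨Y, hY⟩ : ∃ Y, Y = Fintype.card K ^ r := ⟨_, rfl⟩
    rw [← hY, ← hX] at h2 hlt
    rw [← hX] at hq₀3
    have h3 : X ^ 2 < Y ^ 2 := Nat.pow_lt_pow_left hlt (by norm_num)
    have h4 : 1 ≤ X ^ 2 - 1 := by
      have : 9 ≤ X ^ 2 := by nlinarith
      omega
    have h5 : X ^ 2 - 1 < Y ^ 2 - 1 := by omega
    have : X * (X ^ 2 - 1) < Y * (Y ^ 2 - 1) := Nat.mul_lt_mul'' hlt h5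
    omega
  · intro Mt hlt
    rw [hcomap] at hlt
    have hu : uS (1 : F) ∈ Mt := by
      apply hlt.le
      exact ⟨uS 1, by rw [slmap_uS, map_one]⟩
    have hw : wS (0 : F) ∈ Mt := by
      apply hlt.le
      exact ⟨wS 0, by rw [slmap_wS, map_zero]⟩
    have hneg : -1 ∈ Mt := by
      apply hlt.le
      exact ⟨-1, slmap_neg_one ι⟩
    have hdvd : p ^ (b : ℕ) * ((p ^ (b : ℕ)) ^ 2 - 1) ∣ Nat.card Mt := by
      rw [← hcardR]; exact Subgroup.card_dvd_of_le hlt.le
    have hlt' : p ^ (b : ℕ) * ((p ^ (b : ℕ)) ^ 2 - 1) < Nat.card Mt := by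
      rw [← hcardR]
      by_contra hge
      push Not at hge
      exact hlt.ne (Subgroup.eq_of_le_of_card_ge hlt.le hge)
    exact sub_top_odd hp hp2 hb1 hr hr2 hKF Mt hneg hu hw hdvd hlt'

end Cfsg.Agent.S5942
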