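import Cfsg.Statements.S5943
import Cfsg.Agent.Lib_helper11_CA7

set_option autoImplicit false
open Cfsg

namespace Cfsg.Agent.S5943

/-- Let K and F be finite fields of characteristic 2 with #K = q > 2 and #F = q^r for a prime r. Then PSL_2(F) has a maximal subgroup isomorphic to PSL_2(K) (which equals PGL_2(K) in characteristic 2). -/
theorem result {F K : Type*} [Field F] [Fintype F] [Field K] [Fintype K] (q r : ℕ) (hK : Fintype.card K = q) (hF : Fintype.card F = q ^ r) (hq : Even q) (hq2 : q ≠ 2) (hr : r.Prime) : ∃ H : Subgroup (Matrix.ProjectiveSpecialLinearGroup (Fin 2) F), IsCoatom H ∧ Nonempty (H ≃* Matrix.ProjectiveSpecialLinearGroup (Fin 2) K) := by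
  classical
  haveI : Fact (Nat.Prime 2) := ⟨Nat.prime_two⟩
  have hKeven : Fintype.card K % 2 = 0 := by rw [hK]; exact Nat.even_iff.mp hq
  haveI : CharP K 2 := ringChar.of_eq ((FiniteField.even_card_iff_char_two (F := K)).mpr hKeven)
  have hFeven : Fintype.card F % 2 = 0 := by
    rw [hF]; exact Nat.even_iff.mp (Nat.even_pow.mpr ⟨hq, hr.ne_zero⟩)
  haveI : CharP F 2 := ringChar.of_eq ((FiniteField.even_card_iff_char_two (F := F)).mpr hFeven)
  obtain ⟨n, -, hn⟩ := FiniteField.card K 2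
  have hn1 : 1 ≤ (n : ℕ) := n.pos
  have hn2 : 2 ≤ (n : ℕ) := by
    by_contra hlt
    have h1 : (n : ℕ) = 1 := by omega
    rw [h1, pow_one] at hn
    exact hq2 (hK.symm.trans hn)
  have hK' : Fintype.card K = 2 ^ (n : ℕ) := hn
  have hF' : Fintype.card F = 2 ^ ((n : ℕ) * r) := by rw [hF, ← hK, hn, pow_mul]
  obtain ⟨ι⟩ := Cfsg.Agent.helper11.CA.exists_ringHom_of_card K F (n : ℕ) ((n : ℕ) * r) hK' hF'
    (dvd_mul_right _ _)
  have hco := Cfsg.Agent.helper11.CA.isCoatom_range_map ι (n : ℕ) r hn2 hr hK' hF'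
  have h2F : (2 : F) = 0 := CharTwo.two_eq_zero
  have h2K : (2 : K) = 0 := CharTwo.two_eq_zero
  refine ⟨(MulEquiv.mapSubgroup (Cfsg.Agent.helper11.PSL2Char2.slEquiv h2F))
    (Matrix.SpecialLinearGroup.map (n := Fin 2) ι).range, ?_, ?_⟩
  · exact (OrderIso.isCoatom_iff _ _).mpr hco
  · have e1 : (Matrix.SpecialLinearGroup.map (n := Fin 2) ι).range ≃*
        ((Matrix.SpecialLinearGroup.map (n := Fin 2) ι).range).map
          (Cfsg.Agent.helper11.PSL2Char2.slEquiv h2F).toMonoidHom :=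
      Subgroup.equivMapOfInjective _ _ (Cfsg.Agent.helper11.PSL2Char2.slEquiv h2F).injective
    have e2 : Matrix.SpecialLinearGroup (Fin 2) K ≃*
        (Matrix.SpecialLinearGroup.map (n := Fin 2) ι).range :=
      MonoidHom.ofInjective (Cfsg.Agent.helper11.CA.sl2map_injective ι)
    exact ⟨(e1.symm.trans e2.symm).trans (Cfsg.Agent.helper11.PSL2Char2.slEquiv h2K)⟩

end Cfsg.Agent.S5943
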