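import Cfsg.Statements.S5944
-- import your own Cfsg.Agent.* helpers here

set_option autoImplicit false
open Cfsg

namespace Cfsg.Agent.S5944

/-- For n ≠ 4, every proper subgroup of the symmetric group S_n other than the alternating group A_n has index at least n. -/
theorem result (n : ℕ) (hn : n ≠ 4) (H : Subgroup (Equiv.Perm (Fin n))) (hH : H ≠ ⊤) (hA : H ≠ alternatingGroup (Fin n)) : n ≤ H.index := by
  classical
  by_contra hlt
  push Not at hlt
  have h0 : H.index ≠ 0 := Subgroup.index_ne_zero_of_finite
  have h1 : H.index ≠ 1 := by rwa [Ne, Subgroup.index_eq_one]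
  have h2 : H.index ≠ 2 := fun h => hA (Equiv.Perm.eq_alternatingGroup_of_index_eq_two h)
  have hn5 : 5 ≤ n := by omega
  have hcard : Nat.card (Fin n) = n := by simp
  have hsimple : IsSimpleGroup (alternatingGroup (Fin n)) :=
    alternatingGroup.isSimpleGroup (by rw [hcard]; exact hn5)
  have : Nontrivial (Fin n) := Fin.nontrivial_iff_two_le.mpr (by omega)
  set G := Equiv.Perm (Fin n) with hG
  set φ : alternatingGroup (Fin n) →* Equiv.Perm (G ⧸ H) :=
    (MulAction.toPermHom G (G ⧸ H)).comp (alternatingGroup (Fin n)).subtype with hφ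
  rcases (MonoidHom.normal_ker φ).eq_bot_or_eq_top with hker | hker
  · -- injective: card bound
    have hinj : Function.Injective φ := (MonoidHom.ker_eq_bot_iff φ).mp hker
    have hle : Nat.card (alternatingGroup (Fin n)) ≤ Nat.card (Equiv.Perm (G ⧸ H)) :=
      Nat.card_le_card_of_injective φ hinj
    rw [Nat.card_perm] at hle
    have hidx : Nat.card (G ⧸ H) = H.index := rfl
    rw [hidx] at hle
    have h3 : 2 * Nat.card (alternatingGroup (Fin n)) = Nat.card (Equiv.Perm (Fin n)) :=
      two_mul_nat_card_alternatingGroup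
    rw [Nat.card_perm, hcard] at h3
    have h4 : (H.index).factorial ≤ (n - 1).factorial := Nat.factorial_le (by omega)
    have h5 : n.factorial = n * (n - 1).factorial := by
      obtain ⟨m, rfl⟩ : ∃ m, n = m + 1 := ⟨n - 1, by omega⟩
      simp [Nat.factorial_succ]
    have h6 : 0 < (n - 1).factorial := Nat.factorial_pos _
    nlinarith
  · -- alternating group acts trivially, so is contained in H
    have hAH : alternatingGroup (Fin n) ≤ H := by
      intro a ha
      have hmem : (⟨a, ha⟩ : alternatingGroup (Fin n)) ∈ φ.ker := by rw [hker]; exact Subgroup.mem_top _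
      rw [MonoidHom.mem_ker] at hmem
      have h7 : φ ⟨a, ha⟩ ((1 : G) : G ⧸ H) = ((1 : G) : G ⧸ H) := by rw [hmem]; rfl
      have h8 : φ ⟨a, ha⟩ ((1 : G) : G ⧸ H) = ((a * 1 : G) : G ⧸ H) := rfl
      rw [h8, mul_one] at h7
      have := QuotientGroup.eq.mp h7
      simpa using this
    have hdvd := Subgroup.index_dvd_of_le hAH
    rw [alternatingGroup.index_eq_two] at hdvd
    have := Nat.le_of_dvd (by norm_num) hdvd
    omega

end Cfsg.Agent.S5944
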