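import Cfsg.Statements.S5945
import Mathlib
import Cfsg.Agent.S5912
-- import your own Cfsg.Agent.* helpers here

set_option autoImplicit false
open Cfsg

namespace Cfsg.Agent.S5945

open Equiv Equiv.Perm
open scoped Pointwise
open Cfsg.Agent.S5912


lemma coatom6 {Ω : Type*} [Fintype Ω] [DecidableEq Ω] (h6 : Fintype.card Ω = 6)
    (H : Subgroup (Perm Ω)) (hH : H.index = 6) : IsCoatom H := by
  classical
  let X := Perm Ω ⧸ H
  letI : Fintype X := Fintype.ofFinite X
  have hXcard : Fintype.card X = 6 := by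
    rw [← hH, Subgroup.index, Nat.card_eq_fintype_card]
  let ρ : Perm Ω →* Perm X := MulAction.toPermHom (Perm Ω) X
  let pt : X := QuotientGroup.mk 1
  have hρ : ∀ g : Perm Ω, ρ g pt = pt ↔ g ∈ H := by
    intro g
    show g • (QuotientGroup.mk 1 : X) = QuotientGroup.mk 1 ↔ _
    rw [MulAction.Quotient.smul_mk, QuotientGroup.eq]
    simp
  have hker : ρ.ker = ⊥ := by
    apply Cfsg.Agent.S5911.normal_le_eq_bot (by omega) ρ.ker H
    · intro g hg
      rw [← hρ]
      rw [MonoidHom.mem_ker] at hg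
      rw [hg]; rfl
    · omega
  have hinj : Function.Injective ρ := (MonoidHom.ker_eq_bot_iff ρ).mp hker
  have hbij : Function.Bijective ρ := by
    rw [Fintype.bijective_iff_injective_and_card]
    exact ⟨hinj, by rw [Fintype.card_perm, Fintype.card_perm, hXcard, h6]⟩
  have hco : IsCoatom (MulAction.stabilizer (Perm X) pt) := by
    rw [← MulAction.stabilizer_singleton]
    apply Equiv.Perm.isCoatom_stabilizer (Set.singleton_nonempty pt)
    · obtain ⟨y, hy⟩ : ∃ y : X, y ≠ pt := by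
        haveI : Nontrivial X := Fintype.one_lt_card_iff_nontrivial.mp (by omega)
        exact exists_ne pt
      exact ⟨y, hy⟩
    · rw [Set.ncard_singleton, Nat.card_eq_fintype_card, hXcard]; norm_num
  have hcomap : H = (MulAction.stabilizer (Perm X) pt).comap ρ := by
    ext g
    rw [Subgroup.mem_comap, MulAction.mem_stabilizer_iff]
    exact (hρ g).symm
  rw [hcomap]
  exact Subgroup.isCoatom_comap_of_surjective hbij.2 hco

lemma normalizer6 {Ω : Type*} [Fintype Ω] [DecidableEq Ω] (h6 : Fintype.card Ω = 6)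
    (H : Subgroup (Perm Ω)) (hH : H.index = 6) : Subgroup.normalizer (H : Set (Perm Ω)) = H := by
  have hco := coatom6 h6 H hH
  rcases eq_or_lt_of_le (Subgroup.le_normalizer (H := H)) with h | h
  · exact h.symm
  · exfalso
    have htop := hco.2 _ h
    haveI : H.Normal := Subgroup.normalizer_eq_top_iff.mp htop
    have hb := Cfsg.Agent.S5911.normal_le_eq_bot (by omega) H H le_rfl (by omega)
    rw [hb, Subgroup.index_bot, Nat.card_perm, Nat.card_eq_fintype_card, h6] at hH
    have : (6:ℕ).factorial = 720 := by decide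
    omega

lemma card_conj_class {Ω : Type*} [Fintype Ω] [DecidableEq Ω] (h6 : Fintype.card Ω = 6)
    (H : Subgroup (Perm Ω)) (hH : H.index = 6) :
    Set.ncard {K : Subgroup (Perm Ω) | ∃ g : Perm Ω, H.map (MulAut.conj g).toMonoidHom = K} = 6 := by
  letI act : MulAction (Perm Ω) (Subgroup (Perm Ω)) :=
    MulAction.compHom (Subgroup (Perm Ω)) (MulAut.conj : Perm Ω →* MulAut (Perm Ω))
  have hsm : ∀ (g : Perm Ω) (K : Subgroup (Perm Ω)), g • K = K.map (MulAut.conj g).toMonoidHom :=
    fun g K => rfl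
  have horb : MulAction.orbit (Perm Ω) H =
      {K : Subgroup (Perm Ω) | ∃ g : Perm Ω, H.map (MulAut.conj g).toMonoidHom = K} := by
    ext K
    simp only [MulAction.mem_orbit_iff, Set.mem_ofPred_eq, hsm]
  have hstab : MulAction.stabilizer (Perm Ω) H = Subgroup.normalizer (H : Set (Perm Ω)) := by
    ext g
    rw [MulAction.mem_stabilizer_iff, hsm, Subgroup.mem_normalizer_iff_map_conj_eq]
    rfl
  rw [← horb, ← MulAction.index_stabilizer, hstab, normalizer6 h6 H hH, hH]


theorem main45 : Nat.card {H : Subgroup (Equiv.Perm (Fin 6)) // H.index = 6} = 12 ∧ (∀ H : Subgroup (Equiv.Perm (Fin 6)), H.index = 6 → Nonempty (H ≃* Equiv.Perm (Fin 5))) ∧ ∃ H : Subgroup (Equiv.Perm (Fin 6)), H.index = 6 ∧ ∀ a : Fin 6, H ≠ MulAction.stabilizer (Equiv.Perm (Fin 6)) a := by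
  have h6 : Fintype.card (Fin 6) = 6 := by simp
  obtain ⟨H₁, H₂, hi₁, hi₂, hnc, hall⟩ := main12 h6
  have hmem : ∀ (g : Perm (Fin 6)) (H : Subgroup (Perm (Fin 6))) (x : Perm (Fin 6)),
      x ∈ H.map (MulAut.conj g).toMonoidHom ↔ g⁻¹ * x * g ∈ H := by
    intro g H x
    rw [Subgroup.mem_map_equiv, MulAut.conj_symm_apply]
  refine ⟨?_, fun H hH => iso_S5 h6 H hH, ?_⟩
  · let C₁ : Set (Subgroup (Perm (Fin 6))) :=
      {K | ∃ g : Perm (Fin 6), H₁.map (MulAut.conj g).toMonoidHom = K}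
    let C₂ : Set (Subgroup (Perm (Fin 6))) :=
      {K | ∃ g : Perm (Fin 6), H₂.map (MulAut.conj g).toMonoidHom = K}
    have hset : {H : Subgroup (Perm (Fin 6)) | H.index = 6} = C₁ ∪ C₂ := by
      ext K
      constructor
      · intro hK
        obtain ⟨g, hg | hg⟩ := hall K hK
        · left; exact ⟨g, hg⟩
        · right; exact ⟨g, hg⟩
      · rintro (⟨g, rfl⟩ | ⟨g, rfl⟩)
        · show (H₁.map (MulAut.conj g).toMonoidHom).index = 6
          exact (Subgroup.index_map_equiv H₁ (MulAut.conj g)).trans hi₁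
        · show (H₂.map (MulAut.conj g).toMonoidHom).index = 6
          exact (Subgroup.index_map_equiv H₂ (MulAut.conj g)).trans hi₂
    have hdisj : Disjoint C₁ C₂ := by
      rw [Set.disjoint_left]
      rintro K ⟨g₁, h₁⟩ ⟨g₂, h₂⟩
      apply hnc
      refine ⟨g₂⁻¹ * g₁, ?_⟩
      ext x
      rw [hmem]
      have e1 : x ∈ H₂ ↔ g₂ * x * g₂⁻¹ ∈ K := by
        rw [← h₂, hmem]
        rw [show g₂⁻¹ * (g₂ * x * g₂⁻¹) * g₂ = x by group]
      rw [e1, ← h₁, hmem]
      rw [show g₁⁻¹ * (g₂ * x * g₂⁻¹) * g₁ = (g₂⁻¹ * g₁)⁻¹ * x * (g₂⁻¹ * g₁) by group]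
    have hc : Nat.card {H : Subgroup (Perm (Fin 6)) // H.index = 6} =
        Set.ncard {H : Subgroup (Perm (Fin 6)) | H.index = 6} := Nat.card_coe_set_eq _
    rw [hc, hset, Set.ncard_union_eq hdisj (Set.toFinite _) (Set.toFinite _)]
    show Set.ncard C₁ + Set.ncard C₂ = 12
    rw [show Set.ncard C₁ = 6 from card_conj_class h6 H₁ hi₁,
      show Set.ncard C₂ = 6 from card_conj_class h6 H₂ hi₂]
  · by_contra hno
    push Not at hno
    obtain ⟨a, ha⟩ := hno H₁ hi₁
    obtain ⟨b, hb⟩ := hno H₂ hi₂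
    apply hnc
    refine ⟨swap a b, ?_⟩
    rw [ha, hb, ← MulAction.stabilizer_smul_eq_stabilizer_map_conj]
    congr 1
    simp

/-- The symmetric group S_6 has exactly 12 subgroups of index 6; each of them is isomorphic to S_5, and at least one of them is not the stabilizer of any point. -/
theorem result : Nat.card {H : Subgroup (Equiv.Perm (Fin 6)) // H.index = 6} = 12 ∧ (∀ H : Subgroup (Equiv.Perm (Fin 6)), H.index = 6 → Nonempty (H ≃* Equiv.Perm (Fin 5))) ∧ ∃ H : Subgroup (Equiv.Perm (Fin 6)), H.index = 6 ∧ ∀ a : Fin 6, H ≠ MulAction.stabilizer (Equiv.Perm (Fin 6)) a := by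
  exact main45

end Cfsg.Agent.S5945
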