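import Cfsg.Statements.S5947
import Cfsg.Agent.Lib_helper13_Singer3

set_option autoImplicit false
open Cfsg

namespace Cfsg.Agent.S5947




/-- Let F ⊆ K be finite fields with |F| = q and [K : F] = n ≥ 2, regard K as an n-dimensional F-vector space, and let M ≤ GL_F(K) be the Singer group of multiplications by non-zero elements of K (cyclic of order q^n − 1). Assume (n, q) ≠ (6, 2), and that it is not the case that n = 2 with q a prime such that q + 1 is a power of 2. Then every abelian subgroup of GL_F(K) of order q^n − 1 is conjugate to M. -/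
theorem result {F K : Type*} [Field F] [Fintype F] [Field K] [Fintype K] [Algebra F K] (n : ℕ) (hn : 2 ≤ n) (hdim : Module.finrank F K = n)
    (hex1 : ¬ (n = 6 ∧ Fintype.card F = 2))
    (hex2 : ¬ (n = 2 ∧ (Fintype.card F).Prime ∧ ∃ a : ℕ, Fintype.card F + 1 = 2 ^ a))
    (U : Subgroup (Module.End F K)ˣ) (hU : IsMulCommutative U) (hcard : Nat.card U = Fintype.card K - 1) :
    ∃ g : (Module.End F K)ˣ, U.map (MulAut.conj g).toMonoidHom = (Units.map ((Algebra.lmul F K : K →ₐ[F] Module.End F K) : K →* Module.End F K)).range := by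
  classical
  have hq : 1 < Fintype.card F := Fintype.one_lt_card
  have hcardK : Fintype.card K = Fintype.card F ^ n := by
    rw [← hdim]
    exact Module.card_eq_pow_finrank
  have hz2 : ¬ (n = 2 ∧ ∃ m : ℕ, Fintype.card F + 1 = 2 ^ m) := by
    rintro ⟨hn2, m, hm⟩
    apply hex2
    refine ⟨hn2, ?_, m, hm⟩
    obtain ⟨p, hp⟩ := CharP.exists F
    haveI := hp
    obtain ⟨f, hpp, hcardF⟩ := FiniteField.card F p
    rw [hcardF] at hm
    have hf1 := Cfsg.Agent.helper13.prime_pow_add_one_two_pow p f m hpp f.pos hm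
    rw [hcardF, hf1, pow_one]
    exact hpp
  have hz6 : ¬ (Fintype.card F = 2 ∧ n = 6) := fun h => hex1 ⟨h.2, h.1⟩
  obtain ⟨l, hl, hldvd, hlnd⟩ := Cfsg.Agent.S2904.result (Fintype.card F) n hq (by omega) hz6 hz2
  haveI : Fact l.Prime := ⟨hl⟩
  haveI : Nontrivial (Module.End F K) := inferInstance
  haveI : Finite U := Nat.finite_of_card_ne_zero (by
    rw [hcard]
    have := Fintype.one_lt_card (α := K)
    omega)
  have hldvd' : l ∣ Nat.card U := by
    rw [hcard, hcardK]
    exact hldvd
  obtain ⟨⟨u', hu'U⟩, hu'ord⟩ := exists_prime_orderOf_dvd_card' l hldvd'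
  have hu'ord' : orderOf u' = l := by
    rw [← hu'ord]
    exact (Subgroup.orderOf_mk u' hu'U).symm
  obtain ⟨u, hudef⟩ : ∃ u : Module.End F K, u = (u' : Module.End F K) := ⟨_, rfl⟩
  have hul : u ^ l = 1 := by
    rw [hudef, ← Units.val_pow_eq_pow_val, ← hu'ord', pow_orderOf_eq_one, Units.val_one]
  have hu1 : u ≠ 1 := by
    intro h
    have h1 : u' = 1 := Units.ext (by rw [← hudef, h, Units.val_one])
    rw [h1, orderOf_one] at hu'ord'
    exact hl.one_lt.ne hu'ord'
  obtain ⟨hirr, hdeg⟩ := Cfsg.Agent.helper13.minpoly_irreducible_of_ppd n l (by omega) hdim hl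
    hldvd hlnd u hul hu1
  obtain ⟨ι, hι⟩ := Cfsg.Agent.helper13.exists_embedding n (by omega) hdim u hirr hdeg
  have hinj : Function.Injective ι := (ι : K →+* Module.End F K).injective
  have hle : U ≤ (Units.map (ι : K →* Module.End F K)).range := by
    intro t ht
    have hcomm : Commute (t : Module.End F K) u := by
      have h1 := hU.is_comm.comm (⟨t, ht⟩ : U) ⟨u', hu'U⟩
      have h2 := congrArg (fun x : U => ((x : (Module.End F K)ˣ) : Module.End F K)) h1
      rw [hudef]
      exact h2
    obtain ⟨c, hc⟩ := Cfsg.Agent.helper13.mem_range_of_commute u ι hι t hcomm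
    have hc0 : c ≠ 0 := by
      rintro rfl
      rw [map_zero] at hc
      exact t.ne_zero hc
    exact ⟨Units.mk0 c hc0, Units.ext (by rw [Units.coe_map, Units.val_mk0, hc]; rfl)⟩
  have hcardR : Nat.card (Units.map (ι : K →* Module.End F K)).range = Fintype.card K - 1 := by
    have hinj' : Function.Injective (Units.map (ι : K →* Module.End F K)) :=
      Units.map_injective hinj
    rw [← Nat.card_congr (MonoidHom.ofInjective hinj').toEquiv, Nat.card_eq_fintype_card,
      Fintype.card_units]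
  have heq : U = (Units.map (ι : K →* Module.End F K)).range :=
    Subgroup.eq_of_le_of_card_ge hle (by rw [hcardR, hcard])
  obtain ⟨g₀, hg₀⟩ : ∃ g₀ : K →ₗ[F] K, ∀ k, g₀ k = ι k 1 :=
    ⟨IsLinearMap.mk' (fun c => ι c 1) ⟨fun x y => by rw [map_add, LinearMap.add_apply],
      fun c x => by rw [map_smul, LinearMap.smul_apply]⟩, fun c => rfl⟩
  have hsurj : Function.Surjective g₀ := by
    intro w
    obtain ⟨c, hc⟩ := Cfsg.Agent.helper13.orbit_surjective ι (1 : K) one_ne_zero w
    exact ⟨c, by rw [hg₀, hc]⟩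
  have hbij : Function.Bijective g₀ := ⟨LinearMap.injective_iff_surjective.mpr hsurj, hsurj⟩
  obtain ⟨G, hG⟩ : ∃ G : (Module.End F K)ˣ, (G : Module.End F K) = g₀ :=
    ⟨LinearMap.GeneralLinearGroup.ofLinearEquiv (LinearEquiv.ofBijective g₀ hbij), rfl⟩
  have hint : ∀ k : K, ι k * (G : Module.End F K) = (G : Module.End F K) * Algebra.lmul F K k := by
    intro k
    apply LinearMap.ext
    intro x
    rw [Module.End.mul_apply, Module.End.mul_apply, hG, hg₀, hg₀]
    have h1 : (Algebra.lmul F K k) x = k * x := rfl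
    rw [h1, map_mul, Module.End.mul_apply]
  have hkey : ∀ k : K, ((G⁻¹ : (Module.End F K)ˣ) : Module.End F K) * ι k * (G : Module.End F K) =
      Algebra.lmul F K k := by
    intro k
    rw [mul_assoc, hint, ← mul_assoc, Units.inv_mul, one_mul]
  refine ⟨G⁻¹, ?_⟩
  rw [heq]
  ext y
  constructor
  · rintro ⟨x, ⟨k, rfl⟩, rfl⟩
    refine ⟨k, Units.ext ?_⟩
    rw [MulEquiv.coe_toMonoidHom, MulAut.conj_apply, inv_inv, Units.val_mul, Units.val_mul,
      Units.coe_map, Units.coe_map]
    exact (hkey k).symm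
  · rintro ⟨k, rfl⟩
    refine ⟨Units.map (ι : K →* Module.End F K) k, ⟨k, rfl⟩, Units.ext ?_⟩
    rw [MulEquiv.coe_toMonoidHom, MulAut.conj_apply, inv_inv, Units.val_mul, Units.val_mul,
      Units.coe_map, Units.coe_map]
    exact hkey k

end Cfsg.Agent.S5947
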