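import Cfsg.Statements.S5952
import Mathlib
-- import your own Cfsg.Agent.* helpers here

set_option autoImplicit false
open Cfsg

namespace Cfsg.Agent.S5952

section helpers
variable {F V : Type*} [Field F] [AddCommGroup V] [Module F V]

/-- partial sums of the decomposition -/
def T {s : ℕ} (U : Fin s → Submodule F V) (W₀ : Submodule F V) (j : ℕ) : Submodule F V :=
  W₀ ⊔ ⨆ (i : Fin s) (_ : (i : ℕ) < j), U i

lemma T_zero {s : ℕ} (U : Fin s → Submodule F V) (W₀ : Submodule F V) : T U W₀ 0 = W₀ := by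
  unfold T
  simp

lemma T_succ {s : ℕ} (U : Fin s → Submodule F V) (W₀ : Submodule F V) (j : ℕ) (hj : j < s) :
    T U W₀ (j+1) = T U W₀ j ⊔ U ⟨j, hj⟩ := by
  unfold T
  apply le_antisymm
  · apply sup_le
    · exact le_sup_of_le_left le_sup_left
    · apply iSup_le; intro i; apply iSup_le; intro hi
      rcases Nat.lt_succ_iff_lt_or_eq.mp hi with h | h
      · exact le_sup_of_le_left (le_sup_of_le_right (le_iSup₂_of_le i h le_rfl))
      · have : i = ⟨j, hj⟩ := Fin.ext h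
        subst this
        exact le_sup_right
  · apply sup_le
    · apply sup_le
      · exact le_sup_left
      · apply iSup_le; intro i; apply iSup_le; intro hi
        exact le_sup_of_le_right (le_iSup₂_of_le i (Nat.lt_succ_of_lt hi) le_rfl)
    · exact le_sup_of_le_right (le_iSup₂_of_le ⟨j, hj⟩ (Nat.lt_succ_self j) le_rfl)

lemma T_disjoint {s : ℕ} {C : Submodule F V} (U : Fin s → Submodule F V)
    (hind : iSupIndep (fun o : Option (Fin s) => o.elim C U))
    (W₀ : Submodule F V) (hW₀ : W₀ ≤ C) (j : ℕ) (hj : j < s) :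
    Disjoint (T U W₀ j) (U ⟨j, hj⟩) := by
  have h1 := hind (some ⟨j, hj⟩)
  have h2 : T U W₀ j ≤ ⨆ (o : Option (Fin s)) (_ : o ≠ some ⟨j, hj⟩), o.elim C U := by
    unfold T
    apply sup_le
    · exact le_iSup₂_of_le none (by simp) hW₀
    · apply iSup_le; intro i; apply iSup_le; intro hi
      refine le_iSup₂_of_le (some i) ?_ le_rfl
      intro h
      have : i = ⟨j, hj⟩ := Option.some.inj h
      rw [this] at hi
      exact lt_irrefl _ hi
  exact (h1.mono_right h2).symm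

lemma T_top {s : ℕ} {C : Submodule F V} (U : Fin s → Submodule F V)
    (htop : (⨆ o : Option (Fin s), o.elim C U) = ⊤) : T U C s = ⊤ := by
  unfold T
  rw [eq_top_iff, ← htop]
  apply iSup_le
  intro o
  cases o with
  | none => exact le_sup_left
  | some i => exact le_sup_of_le_right (le_iSup₂_of_le i i.2 le_rfl)

lemma inv_sup (f : V →ₗ[F] V) (W₁ W₂ : Submodule F V) (h₁ : W₁.map f ≤ W₁)
    (h₂ : W₂.map f ≤ W₂) : (W₁ ⊔ W₂).map f ≤ W₁ ⊔ W₂ := by
  rw [Submodule.map_sup]; exact sup_le_sup h₁ h₂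

lemma inv_inf (f : V →ₗ[F] V) (W₁ W₂ : Submodule F V) (h₁ : W₁.map f ≤ W₁)
    (h₂ : W₂.map f ≤ W₂) : (W₁ ⊓ W₂).map f ≤ W₁ ⊓ W₂ :=
  (Submodule.map_inf_le f).trans (inf_le_inf h₁ h₂)

lemma inv_T (f : V →ₗ[F] V) {s : ℕ} (U : Fin s → Submodule F V)
    (hUinv : ∀ j, (U j).map f ≤ U j)
    (W₀ : Submodule F V) (hW₀ : W₀.map f ≤ W₀) (j : ℕ) : (T U W₀ j).map f ≤ T U W₀ j := by
  unfold T
  rw [Submodule.map_sup]
  apply sup_le_sup hW₀
  rw [Submodule.map_iSup]
  apply iSup_mono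
  intro i
  rw [Submodule.map_iSup]
  apply iSup_mono
  intro _
  exact hUinv i

lemma inv_of_le_eigen (f : V →ₗ[F] V) (W₀ : Submodule F V)
    (h : W₀ ≤ Module.End.eigenspace f 1) : W₀.map f ≤ W₀ := by
  rintro _ ⟨x, hx, rfl⟩
  have := Module.End.mem_eigenspace_iff.mp (h hx)
  rw [one_smul] at this
  rw [this]; exact hx

variable [FiniteDimensional F V]

lemma finrank_T {s a : ℕ} {C : Submodule F V} (U : Fin s → Submodule F V)
    (hind : iSupIndep (fun o : Option (Fin s) => o.elim C U))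
    (hUdim : ∀ j, Module.finrank F ↥(U j) = a)
    (W₀ : Submodule F V) (hW₀ : W₀ ≤ C) (j : ℕ) (hj : j ≤ s) :
    Module.finrank F ↥(T U W₀ j) = Module.finrank F ↥W₀ + j * a := by
  induction j with
  | zero => rw [T_zero]; simp
  | succ j ih =>
    have hj' : j < s := hj
    have h1 := Submodule.finrank_sup_add_finrank_inf_eq (T U W₀ j) (U ⟨j, hj'⟩)
    rw [(T_disjoint U hind W₀ hW₀ j hj').eq_bot, finrank_bot, ← T_succ U W₀ j hj', hUdim,
      ih hj'.le] at h1
    rw [add_one_mul]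
    omega

lemma step_dim (W Tj Uj : Submodule F V) (hdisj : Disjoint Tj Uj) :
    Module.finrank F ↥(W ⊓ (Tj ⊔ Uj)) =
      Module.finrank F ↥(W ⊓ Tj) + Module.finrank F ↥(((W ⊓ (Tj ⊔ Uj)) ⊔ Tj) ⊓ Uj) := by
  have h1 := Submodule.finrank_sup_add_finrank_inf_eq (W ⊓ (Tj ⊔ Uj)) Tj
  have h2 : (W ⊓ (Tj ⊔ Uj)) ⊓ Tj = W ⊓ Tj := by
    rw [inf_assoc, inf_eq_right.mpr (le_sup_left : Tj ≤ Tj ⊔ Uj)]
  have hle : (W ⊓ (Tj ⊔ Uj)) ⊔ Tj ≤ Tj ⊔ Uj := sup_le inf_le_right le_sup_left
  have h3 : (W ⊓ (Tj ⊔ Uj)) ⊔ Tj = Tj ⊔ ((W ⊓ (Tj ⊔ Uj)) ⊔ Tj) ⊓ Uj := by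
    have h := sup_inf_assoc_of_le Uj (le_sup_right : Tj ≤ (W ⊓ (Tj ⊔ Uj)) ⊔ Tj)
    rw [inf_eq_right.mpr hle] at h
    rw [inf_comm Uj] at h
    exact h
  have h4 := Submodule.finrank_sup_add_finrank_inf_eq Tj (((W ⊓ (Tj ⊔ Uj)) ⊔ Tj) ⊓ Uj)
  have h5 : Tj ⊓ (((W ⊓ (Tj ⊔ Uj)) ⊔ Tj) ⊓ Uj) = ⊥ := by
    apply le_bot_iff.mp
    calc Tj ⊓ (((W ⊓ (Tj ⊔ Uj)) ⊔ Tj) ⊓ Uj) ≤ Tj ⊓ Uj := inf_le_inf_left _ inf_le_right
      _ = ⊥ := hdisj.eq_bot
  rw [h5, finrank_bot] at h4
  rw [h2] at h1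
  rw [h3] at h1
  omega

lemma exists_sub_finrank (C : Submodule F V) (c : ℕ)
    (hc : c ≤ Module.finrank F ↥C) :
    ∃ W₀ : Submodule F V, W₀ ≤ C ∧ Module.finrank F ↥W₀ = c := by
  let b := Module.finBasis F ↥C
  let v : Fin c → V := fun i => C.subtype (b (Fin.castLE hc i))
  have hli : LinearIndependent F v := by
    have h1 : LinearIndependent F (fun i : Fin c => b (Fin.castLE hc i)) :=
      b.linearIndependent.comp (Fin.castLE hc) (Fin.castLE_injective hc)
    exact h1.map' C.subtype (Submodule.ker_subtype C)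
  refine ⟨Submodule.span F (Set.range v), ?_, ?_⟩
  · rw [Submodule.span_le]
    rintro _ ⟨i, rfl⟩
    exact (b (Fin.castLE hc i)).2
  · rw [finrank_span_eq_card hli, Fintype.card_fin]

end helpers

/-- Which dimensions of invariant subspaces a semisimple linear map has. Let `V` be a finite-dimensional vector space over a field `F` and `f` an invertible semisimple linear map of `V`. Suppose `V` is the internal direct sum of the fixed space `C_V(f)` (the eigenspace for 1) and subspaces `U_1, …, U_s`, each `f`-invariant of dimension `a ≥ 1` on which `f` acts irreducibly (no `f`-invariant subspaces other than 0 and `U_j`). Let `0 < m < dim V` and `ℓ = m mod a`. Then `f` leaves some `m`-dimensional subspace invariant if and only if `dim C_V(f) ≥ m`, or `a ≤ m` and `dim C_V(f) ≥ ℓ`. -/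
theorem result {F V : Type*} [Field F] [AddCommGroup V] [Module F V]
    [FiniteDimensional F V] (f : V →ₗ[F] V) (hf : Function.Bijective f) (hss : Module.End.IsSemisimple f)
    {s a : ℕ} (ha : 1 ≤ a) (U : Fin s → Submodule F V)
    (hUinv : ∀ j, (U j).map f ≤ U j) (hUdim : ∀ j, Module.finrank F ↥(U j) = a)
    (hUirr : ∀ j, ∀ W : Submodule F V, W ≤ U j → W.map f ≤ W → W = ⊥ ∨ W = U j)
    (hdec : DirectSum.IsInternal (fun o : Option (Fin s) => o.elim (Module.End.eigenspace f 1) U))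
    (m : ℕ) (hm : 0 < m) (hmV : m < Module.finrank F V) :
    (∃ W : Submodule F V, Module.finrank F ↥W = m ∧ W.map f ≤ W) ↔
    (m ≤ Module.finrank F ↥(Module.End.eigenspace f 1) ∨
      (a ≤ m ∧ m % a ≤ Module.finrank F ↥(Module.End.eigenspace f 1))) := by
  classical
  set C := Module.End.eigenspace f 1 with hC
  have hind : iSupIndep (fun o : Option (Fin s) => o.elim C U) := hdec.submodule_iSupIndep
  have htop : (⨆ o : Option (Fin s), o.elim C U) = ⊤ := hdec.submodule_iSup_eq_top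
  have hTtop : T U C s = ⊤ := T_top U htop
  have hCinv : ∀ W₀ : Submodule F V, W₀ ≤ C → W₀.map f ≤ W₀ :=
    fun W₀ h => inv_of_le_eigen f W₀ h
  have hV : Module.finrank F V = Module.finrank F ↥C + s * a := by
    have := finrank_T U hind hUdim C le_rfl s le_rfl
    rw [hTtop, finrank_top] at this
    exact this
  constructor
  · rintro ⟨W, hWm, hWinv⟩
    have key : ∀ j, j ≤ s → ∃ c k, c ≤ Module.finrank F ↥C ∧ k ≤ j ∧
        Module.finrank F ↥(W ⊓ T U C j) = c + k * a := by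
      intro j
      induction j with
      | zero =>
        intro _
        refine ⟨Module.finrank F ↥(W ⊓ T U C 0), 0, ?_, le_rfl, by simp⟩
        rw [T_zero]
        exact Submodule.finrank_mono inf_le_right
      | succ j ih =>
        intro hj
        have hj' : j < s := hj
        obtain ⟨c, k, hc, hk, hck⟩ := ih hj'.le
        have hdisj := T_disjoint U hind C le_rfl j hj'
        have hdim := step_dim W (T U C j) (U ⟨j, hj'⟩) hdisj
        rw [← T_succ U C j hj'] at hdim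
        have hA'inv : ((W ⊓ T U C (j+1) ⊔ T U C j) ⊓ U ⟨j, hj'⟩).map f
            ≤ (W ⊓ T U C (j+1) ⊔ T U C j) ⊓ U ⟨j, hj'⟩ := by
          apply inv_inf f _ _ _ (hUinv _)
          apply inv_sup f _ _ _ (inv_T f U hUinv C (hCinv C le_rfl) j)
          exact inv_inf f _ _ hWinv (inv_T f U hUinv C (hCinv C le_rfl) (j+1))
        rcases hUirr ⟨j, hj'⟩ ((W ⊓ T U C (j+1) ⊔ T U C j) ⊓ U ⟨j, hj'⟩) inf_le_right hA'inv
          with h0 | h1
        · refine ⟨c, k, hc, Nat.le_succ_of_le hk, ?_⟩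
          rw [hdim, h0, hck]; simp
        · refine ⟨c, k+1, hc, Nat.succ_le_succ hk, ?_⟩
          rw [hdim, h1, hck, hUdim]; ring
    obtain ⟨c, k, hc, hk, hck⟩ := key s le_rfl
    rw [hTtop, inf_top_eq, hWm] at hck
    rcases Nat.eq_zero_or_pos k with hk0 | hkpos
    · left; rw [hck, hk0]; simpa using hc
    · right
      constructor
      · rw [hck]
        calc a = 1 * a := (one_mul a).symm
          _ ≤ k * a := Nat.mul_le_mul_right a hkpos
          _ ≤ c + k * a := Nat.le_add_left _ _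
      · rw [hck, Nat.add_mul_mod_self_right]
        exact (Nat.mod_le c a).trans hc
  · rintro (hmd | ⟨ham, hmod⟩)
    · obtain ⟨W₀, hW₀C, hW₀dim⟩ := exists_sub_finrank C m hmd
      exact ⟨W₀, hW₀dim, hCinv W₀ hW₀C⟩
    · by_cases hks : m / a ≤ s
      · obtain ⟨W₀, hW₀C, hW₀dim⟩ := exists_sub_finrank C (m % a) hmod
        refine ⟨T U W₀ (m / a), ?_, inv_T f U hUinv W₀ (hCinv W₀ hW₀C) _⟩
        rw [finrank_T U hind hUdim W₀ hW₀C (m / a) hks, hW₀dim]
        rw [mul_comm]; exact Nat.mod_add_div m a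
      · push Not at hks
        have h1 : s * a ≤ m := by
          calc s * a ≤ (m / a) * a := Nat.mul_le_mul_right a hks.le
            _ ≤ m := Nat.div_mul_le_self m a
        have h2 : m - s * a ≤ Module.finrank F ↥C := by omega
        obtain ⟨W₀, hW₀C, hW₀dim⟩ := exists_sub_finrank C (m - s * a) h2
        refine ⟨T U W₀ s, ?_, inv_T f U hUinv W₀ (hCinv W₀ hW₀C) _⟩
        rw [finrank_T U hind hUdim W₀ hW₀C s le_rfl, hW₀dim]
        omega

end Cfsg.Agent.S5952
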