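import Cfsg.Statements.S5959
import Mathlib
import Cfsg.Agent.Lib_helper29_JD2
-- import your own Cfsg.Agent.* helpers here

set_option autoImplicit false
open scoped MatrixGroups
open Cfsg

namespace Cfsg.Agent.S5959

/-- Elements of order `p` of PSL_n(q) and imprimitive subgroups: a necessary condition. Here `T = PSL_n(F)` for a field `F` with `q = p^f` elements (`n ≥ 2`, `(n, q) ≠ (2, 2), (2, 3)`), `n = a·t` with `t ≥ 2`, and Ω is the set of direct-sum decompositions of `F^n` into `t` subspaces of dimension `a` (unordered; their number is the number of ordered ones divided by `t!`), whose stabilizers are the imprimitive subgroups of type GL_a(q) ≀ S_t (maximal except in some small cases; maximality is not assumed); an element of `T` of prime order `r` (a matrix `x` of determinant 1 with `x^r` scalar, `x` not scalar) fixes a point of Ω when it permutes the summands of some such decomposition. Suppose `p > 2` divides the number of such decompositions. If every element of `T` of order `p` stabilizes such a decomposition,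 then every partition of `n` into parts of size at most `p` in which the part `p` occurs fewer than `a` times contains (as a sub-multiset) a partition of `a`. -/
theorem result {F : Type*} [Field F] [Fintype F] {p : ℕ} [Fact p.Prime] [CharP F p] {q : ℕ} (hq : Fintype.card F = q)
    (n a t : ℕ) (hn : 2 ≤ n) (hT : (n, q) ≠ (2, 2) ∧ (n, q) ≠ (2, 3)) (hat : n = a * t) (ha : 1 ≤ a) (ht : 2 ≤ t)
    (hp : 2 < p) (hΩ : p ∣ Nat.card {D : Fin t → Submodule F (Fin n → F) // Cfsg.Geo.IsMDecomposition a D} / Nat.factorial t)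
    (h : ∀ x : Matrix.SpecialLinearGroup (Fin n) F,
      (∃ z : F, ((x ^ p : Matrix.SpecialLinearGroup (Fin n) F) : Matrix (Fin n) (Fin n) F) = z • (1 : Matrix (Fin n) (Fin n) F)) →
      (∀ z : F, (x : Matrix (Fin n) (Fin n) F) ≠ z • (1 : Matrix (Fin n) (Fin n) F)) →
      ∃ D : Fin t → Submodule F (Fin n → F), Cfsg.Geo.IsMDecomposition a D ∧
        ∃ σ : Equiv.Perm (Fin t), ∀ j, (D j).map (Matrix.toLin' (x : Matrix (Fin n) (Fin n) F)) = D (σ j)) :
    (∀ μ : Multiset ℕ, (∀ b ∈ μ, 0 < b ∧ b ≤ p) → μ.sum = n → μ.count p < a → ∃ ν : Multiset ℕ, ν ≤ μ ∧ ν.sum = a) := by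
  classical
  have hpp : p.Prime := Fact.out
  intro μ hμ hsum hcount
  by_cases hall : ∀ b ∈ μ, b = 1
  · refine ⟨Multiset.replicate a 1, ?_, ?_⟩
    · rw [Multiset.le_iff_count]
      intro b
      by_cases hb : b = 1
      · have h1 : μ = Multiset.replicate (Multiset.card μ) 1 := Multiset.eq_replicate_card.mpr hall
        have h2 : Multiset.card μ = n := by
          rw [h1] at hsum
          simpa using hsum
        rw [hb, Multiset.count_replicate_self, h1, Multiset.count_replicate_self, h2, hat]
        nlinarith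
      · rw [Multiset.count_replicate, if_neg (Ne.symm hb)]
        exact Nat.zero_le _
    · simp
  · push_neg at hall
    obtain ⟨b₀, hb₀, hb₀1⟩ := hall
    obtain ⟨P, hP⟩ : ∃ P : Nat.Partition n, P.parts = μ :=
      ⟨⟨μ, fun {i} hi => (hμ i hi).1, hsum⟩, rfl⟩
    obtain ⟨g, hT⟩ := Cfsg.Agent.helper25.Jordan.exists_of_partition (F := F) P
    rw [hP] at hT
    have hle : ∀ b ∈ μ, b ≤ p := fun b hb => (hμ b hb).2
    have hgp : (g.val - 1) ^ p = 0 :=
      (Cfsg.Agent.helper25.Jordan.pow_eq_zero_iff_of_hasType hT p).mpr hle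
    have hg1 : ¬ (g.val - 1) ^ 1 = 0 := by
      intro h0
      have h1 := (Cfsg.Agent.helper25.Jordan.pow_eq_zero_iff_of_hasType hT 1).mp h0 b₀ hb₀
      have h2 := (hμ b₀ hb₀).1
      omega
    have hgpow : g.val ^ p = 1 := by
      have h1 := Cfsg.Agent.helper25.Jordan.sub_one_pow_char_pow (F := F) p g.val 1
      rw [pow_one, hgp] at h1
      exact (sub_eq_zero.mp h1.symm)
    have hdet : g.val.det = 1 := by
      have h1 : g.val.det ^ p = 1 := by rw [← Matrix.det_pow, hgpow, Matrix.det_one]
      have h2 : (g.val.det - 1) ^ p = 0 := by rw [sub_pow_char, h1, one_pow, sub_self]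
      exact sub_eq_zero.mp ((pow_eq_zero_iff hpp.ne_zero).mp h2)
    obtain ⟨x, hx⟩ : ∃ x : Matrix.SpecialLinearGroup (Fin n) F,
        (x : Matrix (Fin n) (Fin n) F) = g.val := ⟨⟨g.val, hdet⟩, rfl⟩
    have hxz : ∃ z : F, ((x ^ p : Matrix.SpecialLinearGroup (Fin n) F) :
        Matrix (Fin n) (Fin n) F) = z • (1 : Matrix (Fin n) (Fin n) F) :=
      ⟨1, by rw [Matrix.SpecialLinearGroup.coe_pow, hx, hgpow, one_smul]⟩
    have hns : ∀ z : F, (x : Matrix (Fin n) (Fin n) F) ≠ z • (1 : Matrix (Fin n) (Fin n) F) := by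
      intro z hz
      rw [hx] at hz
      have h1 : g.val - 1 = (z - 1) • (1 : Matrix (Fin n) (Fin n) F) := by
        rw [hz, sub_smul, one_smul]
      have h2 : ((z - 1) ^ p) • (1 : Matrix (Fin n) (Fin n) F) = 0 := by
        rw [← hgp, h1, smul_pow, one_pow]
      have h3 : (z - 1) ^ p = 0 := by
        have := congrFun (congrFun h2 ⟨0, by omega⟩) ⟨0, by omega⟩
        simpa using this
      have h4 : z - 1 = 0 := (pow_eq_zero_iff hpp.ne_zero).mp h3
      apply hg1
      rw [pow_one, h1, h4, zero_smul]
    obtain ⟨D, hD, σ, hσ⟩ := h x hxz hns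
    rw [hx] at hσ
    exact Cfsg.Agent.helper29.JD.exists_sub_partition p a t g μ hT hle hcount D hD σ hσ

end Cfsg.Agent.S5959
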