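import Cfsg.Statements.S5960
import Cfsg.Agent.S5957
import Mathlib

set_option autoImplicit false
open scoped MatrixGroups
open Cfsg

namespace Cfsg.Agent.S5960

open Module Cfsg.Agent.S5957

universe u

section fam
variable {F : Type*} [Field F]

/-- the permutation of the planes induced by the operator: pairs are flipped, singles fixed. -/
def tau {S M : Type} : (S × Fin 2) ⊕ M → (S × Fin 2) ⊕ M
  | Sum.inl (i, e) => Sum.inl (i, Equiv.swap 0 1 e)
  | Sum.inr k => Sum.inr k

/-- a family of pairwise orthogonal hyperbolic pairs adapted to an isometry `X` with `X² = z`. -/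
structure SFam {V : Type u} [AddCommGroup V] [Module F V] (B : LinearMap.BilinForm F V)
    (X : V →ₗ[F] V) (S M : Type) where
  f : (S × Fin 2) ⊕ M → Fin 2 → V
  hyp : ∀ π, B (f π 0) (f π 1) ≠ 0
  orth : ∀ π π', π ≠ π' → ∀ c c', B (f π c) (f π' c') = 0
  hX : ∀ π c, ∃ α β : F, X (f π c) = α • f (tau π) 0 + β • f (tau π) 1

theorem fin2_cases (c : Fin 2) : c = 0 ∨ c = 1 := by
  fin_cases c <;> simp

variable {V : Type u} [AddCommGroup V] [Module F V] {B : LinearMap.BilinForm F V}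
  {X : V →ₗ[F] V} {S M : Type}

theorem skew (hB : B.IsAlt) (x y : V) : B x y = -B y x := by
  rw [LinearMap.IsAlt.neg hB y x]

theorem SFam.ne (A : SFam B X S M) (hB : B.IsAlt) (π : (S × Fin 2) ⊕ M) {c c' : Fin 2}
    (h : c ≠ c') : B (A.f π c) (A.f π c') ≠ 0 := by
  rcases fin2_cases c with rfl | rfl <;> rcases fin2_cases c' with rfl | rfl
  · exact absurd rfl h
  · exact A.hyp π
  · rw [skew hB, neg_ne_zero]
    exact A.hyp π
  · exact absurd rfl h

/-- the dual family. -/
def SFam.dual (A : SFam B X S M) (i : ((S × Fin 2) ⊕ M) × Fin 2) : V :=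
  A.f i.1 (Equiv.swap 0 1 i.2)

/-- the family, uncurried. -/
def SFam.fam (A : SFam B X S M) (i : ((S × Fin 2) ⊕ M) × Fin 2) : V := A.f i.1 i.2

theorem swap_ne (c : Fin 2) : Equiv.swap (0 : Fin 2) 1 c ≠ c := by
  fin_cases c <;> simp

theorem swap_eq_of_ne {c c' : Fin 2} (h : c ≠ c') : Equiv.swap (0 : Fin 2) 1 c = c' := by
  fin_cases c <;> fin_cases c' <;> simp at h ⊢

theorem SFam.dual_self (A : SFam B X S M) (hB : B.IsAlt) (i) : B (A.dual i) (A.fam i) ≠ 0 :=
  A.ne hB i.1 (swap_ne i.2)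

theorem SFam.dual_other (A : SFam B X S M) (hB : B.IsAlt) (i j) (h : i ≠ j) :
    B (A.dual i) (A.fam j) = 0 := by
  obtain ⟨π, c⟩ := i
  obtain ⟨π', c'⟩ := j
  by_cases hπ : π = π'
  · subst hπ
    have hc : c ≠ c' := fun e => h (by rw [e])
    show B (A.f π (Equiv.swap 0 1 c)) (A.f π c') = 0
    rw [swap_eq_of_ne hc]
    exact hB _
  · exact A.orth π π' hπ _ _

theorem dual_apply_sum {ι : Type*} [Fintype ι] [DecidableEq ι] (B : LinearMap.BilinForm F V)
    (v w : ι → V) (h0 : ∀ i j, i ≠ j → B (w i) (v j) = 0) (g : ι → F) (i : ι) :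
    B (w i) (∑ j, g j • v j) = g i * B (w i) (v i) := by
  simp only [map_sum, map_smul, smul_eq_mul]
  rw [Finset.sum_eq_single i]
  · intro j _ hj
    rw [h0 i j (Ne.symm hj), mul_zero]
  · intro h
    exact absurd (Finset.mem_univ i) h

theorem li_of_dual {ι : Type*} [Fintype ι] [DecidableEq ι] (B : LinearMap.BilinForm F V)
    (v w : ι → V) (h0 : ∀ i j, i ≠ j → B (w i) (v j) = 0) (h1 : ∀ i, B (w i) (v i) ≠ 0) :
    LinearIndependent F v := by
  rw [Fintype.linearIndependent_iff]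
  intro g hg i
  have := dual_apply_sum B v w h0 g i
  rw [hg, map_zero] at this
  rcases mul_eq_zero.mp this.symm with h | h
  · exact h
  · exact absurd h (h1 i)

theorem SFam.li [Fintype S] [Fintype M] (A : SFam B X S M) (hB : B.IsAlt) :
    LinearIndependent F A.fam := by
  classical
  exact li_of_dual B A.fam A.dual (A.dual_other hB) (A.dual_self hB)

/-- gluing of index types. -/
def gmap {S₁ M₁ S₂ M₂ : Type} :
    ((S₁ ⊕ S₂) × Fin 2) ⊕ (M₁ ⊕ M₂) → ((S₁ × Fin 2) ⊕ M₁) ⊕ ((S₂ × Fin 2) ⊕ M₂)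
  | Sum.inl (Sum.inl i, e) => Sum.inl (Sum.inl (i, e))
  | Sum.inl (Sum.inr i, e) => Sum.inr (Sum.inl (i, e))
  | Sum.inr (Sum.inl k) => Sum.inl (Sum.inr k)
  | Sum.inr (Sum.inr k) => Sum.inr (Sum.inr k)

theorem gmap_injective {S₁ M₁ S₂ M₂ : Type} :
    Function.Injective (gmap (S₁ := S₁) (M₁ := M₁) (S₂ := S₂) (M₂ := M₂)) := by
  rintro (⟨i | i, e⟩ | k | k) (⟨i' | i', e'⟩ | k' | k') h <;> simp_all [gmap]

theorem gmap_tau {S₁ M₁ S₂ M₂ : Type} (π : ((S₁ ⊕ S₂) × Fin 2) ⊕ (M₁ ⊕ M₂)) :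
    gmap (tau π) = Sum.map tau tau (gmap π) := by
  rcases π with ⟨i | i, e⟩ | k | k <;> rfl

theorem glue (hB : B.IsAlt) {S₁ M₁ S₂ M₂ : Type} (A₁ : SFam B X S₁ M₁) (W : Submodule F V)
    (hW : ∀ w ∈ W, X w ∈ W) (hQW : ∀ π c, ∀ w ∈ W, B (A₁.f π c) w = 0)
    (A₂ : SFam (B.restrict W) (X.restrict hW) S₂ M₂) :
    Nonempty (SFam B X (S₁ ⊕ S₂) (M₁ ⊕ M₂)) := by
  refine ⟨⟨fun π c => Sum.elim (fun ρ => A₁.f ρ c) (fun ρ => (A₂.f ρ c : V)) (gmap π),
    ?_, ?_, ?_⟩⟩
  · intro π
    rcases gmap π with ρ | ρ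
    · exact A₁.hyp ρ
    · exact A₂.hyp ρ
  · intro π π' hne c c'
    have hne' : gmap π ≠ gmap π' := fun h => hne (gmap_injective h)
    revert hne'
    rcases gmap π with ρ | ρ <;> rcases gmap π' with ρ' | ρ' <;> intro hne'
    · exact A₁.orth ρ ρ' (fun e => hne' (congrArg _ e)) c c'
    · exact hQW ρ c _ (A₂.f ρ' c').2
    · show B (A₂.f ρ c : V) (A₁.f ρ' c') = 0
      rw [skew hB, hQW ρ' c' _ (A₂.f ρ c).2, neg_zero]
    · exact A₂.orth ρ ρ' (fun e => hne' (congrArg _ e)) c c'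
  · intro π c
    rw [gmap_tau]
    rcases gmap π with ρ | ρ
    · exact A₁.hX ρ c
    · obtain ⟨α, β, h⟩ := A₂.hX ρ c
      exact ⟨α, β, congrArg Subtype.val h⟩

end fam

section induction
variable {F : Type*} [Field F]
variable {V : Type u} [AddCommGroup V] [Module F V] [FiniteDimensional F V]
  {B : LinearMap.BilinForm F V} {X : V →ₗ[F] V} {S M : Type}

theorem refl_of_alt (hB : B.IsAlt) : B.IsRefl := fun x y h => by
  rw [skew hB, h, neg_zero]

/-- the orthogonal complement of the span of an adapted family. -/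
theorem exists_compl [Fintype S] [Fintype M] (hnd : B.Nondegenerate) (hB : B.IsAlt)
    (hiso : ∀ u v, B (X u) (X v) = B u v) {z : F} (hz : z ≠ 0) (hX : ∀ v, X (X v) = z • v)
    (A : SFam B X S M) :
    ∃ W : Submodule F V, (∀ w ∈ W, X w ∈ W) ∧ (∀ π c, ∀ w ∈ W, B (A.f π c) w = 0) ∧
      (B.restrict W).Nondegenerate ∧
      finrank F W + 2 * (2 * Fintype.card S + Fintype.card M) = finrank F V := by
  classical
  set Q : Submodule F V := Submodule.span F (Set.range A.fam) with hQ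
  have hli := A.li hB
  have hQdim : finrank F Q = 2 * (2 * Fintype.card S + Fintype.card M) := by
    rw [hQ, finrank_span_eq_card hli]
    simp only [Fintype.card_sum, Fintype.card_prod, Fintype.card_fin]
    ring
  have hmemQ : ∀ π c, A.f π c ∈ Q := fun π c => Submodule.subset_span ⟨(π, c), rfl⟩
  have hQinv : ∀ u ∈ Q, X u ∈ Q := by
    intro u hu
    have : Q.map X ≤ Q := by
      rw [hQ, Submodule.map_span, Submodule.span_le]
      rintro _ ⟨_, ⟨i, rfl⟩, rfl⟩
      obtain ⟨α, β, h⟩ := A.hX i.1 i.2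
      show X (A.f i.1 i.2) ∈ _
      rw [h]
      exact Submodule.add_mem _ (Submodule.smul_mem _ _ (hmemQ _ _))
        (Submodule.smul_mem _ _ (hmemQ _ _))
    exact this (Submodule.mem_map_of_mem hu)
  have hdisj : Disjoint Q (B.orthogonal Q) := by
    rw [Submodule.disjoint_def]
    intro x hxQ hxO
    rw [hQ, Submodule.mem_span_range_iff_exists_fun] at hxQ
    obtain ⟨g, rfl⟩ := hxQ
    have hg : ∀ i, g i = 0 := by
      intro i
      have h1 := dual_apply_sum B A.fam A.dual (A.dual_other hB) g i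
      have h2 : B (A.dual i) (∑ j, g j • A.fam j) = 0 :=
        hxO (A.dual i) (hmemQ _ _)
      rw [h2] at h1
      rcases mul_eq_zero.mp h1.symm with h | h
      · exact h
      · exact absurd h (A.dual_self hB i)
    simp [hg]
  have hrefl := refl_of_alt hB
  refine ⟨B.orthogonal Q, ?_, ?_, ?_, ?_⟩
  · intro w hw u hu
    have hu' : z⁻¹ • X u ∈ Q := Submodule.smul_mem _ _ (hQinv u hu)
    have h1 : X (z⁻¹ • X u) = u := by
      rw [map_smul, hX, smul_smul, inv_mul_cancel₀ hz, one_smul]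
    show B u (X w) = 0
    rw [← h1, hiso]
    exact hw _ hu'
  · intro π c w hw
    exact hw _ (hmemQ π c)
  · apply LinearMap.BilinForm.nondegenerate_restrict_of_disjoint_orthogonal B hrefl
    rw [LinearMap.BilinForm.orthogonal_orthogonal hnd hrefl]
    exact hdisj.symm
  · rw [LinearMap.BilinForm.finrank_orthogonal hnd, hQdim]
    have := Submodule.finrank_le Q
    omega

/-- a single invariant hyperbolic plane. -/
theorem piece_M (u u' : V) (h : B u u' ≠ 0) (h0 : ∃ α β : F, X u = α • u + β • u')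
    (h1 : ∃ α β : F, X u' = α • u + β • u') : Nonempty (SFam B X Empty Unit) := by
  refine ⟨⟨fun _ c => ![u, u'] c, ?_, ?_, ?_⟩⟩
  · intro π
    exact h
  · rintro (⟨i, _⟩ | ⟨⟩) (⟨i', _⟩ | ⟨⟩) hne
    · exact i.elim
    · exact i.elim
    · exact i'.elim
    · exact absurd rfl hne
  · intro π c
    rcases fin2_cases c with rfl | rfl
    · exact h0
    · exact h1

/-- a pair of hyperbolic planes swapped by `X`. -/
theorem piece_S (hB : B.IsAlt) (hiso : ∀ u v, B (X u) (X v) = B u v) {z : F}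
    (hX : ∀ v, X (X v) = z • v) (g : Fin 2 → V) (h : B (g 0) (g 1) ≠ 0)
    (hg : ∀ c c', B (g c) (X (g c')) = 0) : Nonempty (SFam B X Unit Empty) := by
  refine ⟨⟨fun π c => match π with
    | Sum.inl (_, e) => ![g c, X (g c)] e
    | Sum.inr k => k.elim, ?_, ?_, ?_⟩⟩
  · rintro (⟨⟨⟩, e⟩ | k)
    · rcases fin2_cases e with rfl | rfl
      · exact h
      · show B (X (g 0)) (X (g 1)) ≠ 0
        rw [hiso]
        exact h
    · exact k.elim
  · rintro (⟨⟨⟩, e⟩ | k) (⟨⟨⟩, e'⟩ | k') hne c c'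
    · have hee : e ≠ e' := fun h => hne (by rw [h])
      rcases fin2_cases e with rfl | rfl <;> rcases fin2_cases e' with rfl | rfl
      · exact absurd rfl hee
      · exact hg c c'
      · show B (X (g c)) (g c') = 0
        rw [skew hB, hg, neg_zero]
      · exact absurd rfl hee
    · exact k'.elim
    · exact k.elim
    · exact k.elim
  · rintro (⟨⟨⟩, e⟩ | k) c
    · rcases fin2_cases e with rfl | rfl
      · show ∃ α β : F, X (g c) = α • X (g 0) + β • X (g 1)
        rcases fin2_cases c with rfl | rfl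
        · exact ⟨1, 0, by simp⟩
        · exact ⟨0, 1, by simp⟩
      · show ∃ α β : F, X (X (g c)) = α • g 0 + β • g 1
        rcases fin2_cases c with rfl | rfl
        · exact ⟨z, 0, by simp [hX]⟩
        · exact ⟨0, z, by simp [hX]⟩
    · exact k.elim

/-- a first piece. -/
theorem exists_piece (hnd : B.Nondegenerate) (hB : B.IsAlt)
    (hiso : ∀ u v, B (X u) (X v) = B u v) {z : F} (hX : ∀ v, X (X v) = z • v)
    (hpos : 0 < finrank F V) :
    ∃ (S M : Type) (_ : Fintype S) (_ : Fintype M), Nonempty (SFam B X S M) ∧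
      0 < 2 * Fintype.card S + Fintype.card M := by
  by_cases hA : ∃ v, B v (X v) ≠ 0
  · obtain ⟨v, hv⟩ := hA
    refine ⟨Empty, Unit, inferInstance, inferInstance,
      piece_M v (X v) hv ⟨0, 1, by simp⟩ ⟨z, 0, by simp [hX]⟩, by simp⟩
  · push Not at hA
    by_cases hall : ∀ v, ∃ μ : F, X v = μ • v
    · haveI : Nontrivial V := Module.nontrivial_of_finrank_pos hpos
      obtain ⟨v, hv⟩ := exists_ne (0 : V)
      have : ∃ w, B v w ≠ 0 := by
        by_contra hcon
        push Not at hcon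
        exact hv (hnd.1 v hcon)
      obtain ⟨w, hw⟩ := this
      obtain ⟨μ, hμ⟩ := hall v
      obtain ⟨μ', hμ'⟩ := hall w
      refine ⟨Empty, Unit, inferInstance, inferInstance,
        piece_M v w hw ⟨μ, 0, by simp [hμ]⟩ ⟨0, μ', by simp [hμ']⟩, by simp⟩
    · push Not at hall
      obtain ⟨e1, he1⟩ := hall
      have hnot : e1 ∉ Submodule.span F {X e1} := by
        intro h
        obtain ⟨μ, hμ⟩ := Submodule.mem_span_singleton.mp h
        apply he1 (μ * z)
        conv_lhs => rw [← hμ]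
        rw [map_smul, hX, smul_smul]
      obtain ⟨φ, hφ1, hφ2⟩ := Submodule.exists_dual_map_eq_bot_of_notMem hnot inferInstance
      have hφ3 : φ (X e1) = 0 := by
        have : φ (X e1) ∈ (Submodule.span F {X e1}).map φ :=
          ⟨X e1, Submodule.mem_span_singleton_self _, rfl⟩
        rw [hφ2] at this
        exact (Submodule.mem_bot F).mp this
      set f1 : V := (B.toDual hnd).symm φ with hf1
      have hf1a : B f1 e1 ≠ 0 := by
        rw [hf1, LinearMap.BilinForm.apply_toDual_symm_apply]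
        exact hφ1
      have hf1b : B f1 (X e1) = 0 := by
        rw [hf1, LinearMap.BilinForm.apply_toDual_symm_apply]
        exact hφ3
      have hpol : B e1 (X f1) = 0 := by
        have h1 := hA (e1 + f1)
        simp only [map_add, LinearMap.add_apply, hA e1, hA f1, hf1b] at h1
        simpa using h1
      refine ⟨Unit, Empty, inferInstance, inferInstance,
        piece_S hB hiso hX ![e1, f1] ?_ ?_, by simp⟩
      · show B e1 f1 ≠ 0
        rw [skew hB, neg_ne_zero]
        exact hf1a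
      · intro c c'
        rcases fin2_cases c with rfl | rfl <;> rcases fin2_cases c' with rfl | rfl
        · exact hA e1
        · exact hpol
        · exact hf1b
        · exact hA f1

theorem exists_sfam (n : ℕ) : ∀ (V : Type u) [AddCommGroup V] [Module F V]
    [FiniteDimensional F V] (B : LinearMap.BilinForm F V) (X : V →ₗ[F] V) (z : F),
    z ≠ 0 → B.Nondegenerate → B.IsAlt → (∀ u v, B (X u) (X v) = B u v) →
    (∀ v, X (X v) = z • v) → finrank F V = n →
    ∃ (S M : Type) (_ : Fintype S) (_ : Fintype M), Nonempty (SFam B X S M) ∧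
      2 * (2 * Fintype.card S + Fintype.card M) = n := by
  induction n using Nat.strong_induction_on with
  | _ n ih =>
  intro V _ _ _ B X z hz hnd hB hiso hX hn
  rcases Nat.eq_zero_or_pos n with h0 | hpos
  · subst h0
    haveI : Subsingleton V := Module.finrank_zero_iff.mp hn
    refine ⟨Empty, Empty, inferInstance, inferInstance, ⟨⟨fun _ _ => 0, ?_, ?_, ?_⟩⟩, by simp⟩
    · rintro (⟨i, _⟩ | k)
      · exact i.elim
      · exact k.elim
    · rintro (⟨i, _⟩ | k)
      · exact i.elim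
      · exact k.elim
    · rintro (⟨i, _⟩ | k)
      · exact i.elim
      · exact k.elim
  · obtain ⟨S₁, M₁, _, _, ⟨A₁⟩, hcard⟩ := exists_piece hnd hB hiso hX (hn ▸ hpos)
    obtain ⟨W, hWinv, hQW, hWnd, hWdim⟩ := exists_compl hnd hB hiso hz hX A₁
    have hlt : finrank F W < n := by omega
    have hBW : (B.restrict W).IsAlt := fun w => hB (w : V)
    obtain ⟨S₂, M₂, _, _, ⟨A₂⟩, hcard₂⟩ := ih (finrank F W) hlt W (B.restrict W)
      (X.restrict hWinv) z hz hWnd hBW (fun u v => hiso u v)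
      (fun w => Subtype.ext (by
        rw [LinearMap.coe_restrict_apply, LinearMap.coe_restrict_apply, hX]
        rfl)) rfl
    refine ⟨S₁ ⊕ S₂, M₁ ⊕ M₂, inferInstance, inferInstance, glue hB A₁ W hWinv hQW A₂, ?_⟩
    simp only [Fintype.card_sum]
    omega

end induction

section main
variable {F : Type*} [Field F]

theorem blk_tau {q a t' : ℕ} {p : Fin t' → ℕ} (π : Idx q a t' p) :
    blk (tau π) = sig q t' (blk π) := by
  rcases π with ⟨i, e⟩ | k
  · exact blk_flip i e
  · exact blk_single k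

theorem card_fiber2 {q a t' : ℕ} {p : Fin t' → ℕ} (hp : ∀ j, 2 * p j ≤ a) (j : JJ q t') :
    Fintype.card {i : Idx q a t' p × Fin 2 // blk i.1 = j} = 2 * a := by
  classical
  let e : {i : Idx q a t' p × Fin 2 // blk i.1 = j} ≃ {π : Idx q a t' p // blk π = j} × Fin 2 :=
    { toFun := fun i => (⟨i.1.1, i.2⟩, i.1.2)
      invFun := fun y => ⟨(y.1.1, y.2), y.1.2⟩
      left_inv := fun i => rfl
      right_inv := fun y => rfl }
  rw [Fintype.card_congr e, Fintype.card_prod, card_fiber hp, Fintype.card_fin, mul_comm]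

theorem main_symp {V : Type u} [AddCommGroup V] [Module F V] [FiniteDimensional F V]
    (B : LinearMap.BilinForm F V) (X : V →ₗ[F] V) (z : F) (hz : z ≠ 0) (hnd : B.Nondegenerate)
    (hB : B.IsAlt) (hiso : ∀ u v, B (X u) (X v) = B u v) (hX : ∀ v, X (X v) = z • v)
    (a' t : ℕ) (ha' : 1 ≤ a') (hdim : finrank F V = 2 * a' * t) :
    ∃ D : Fin t → Submodule F V, (∀ j, finrank F (D j) = 2 * a') ∧ iSupIndep D ∧ iSup D = ⊤ ∧
      (∀ j, ∀ u ∈ D j, u ≠ 0 → ∃ v ∈ D j, B u v ≠ 0) ∧
      (∀ j j', j ≠ j' → ∀ u ∈ D j, ∀ v ∈ D j', B u v = 0) ∧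
      ∃ σ : Equiv.Perm (Fin t), ∀ j, (D j).map X = D (σ j) := by
  classical
  obtain ⟨S, M, _, _, ⟨A⟩, hcard0⟩ := exists_sfam (finrank F V) V B X z hz hnd hB hiso hX rfl
  have hcard : 2 * Fintype.card S + Fintype.card M = a' * t := by
    rw [hdim] at hcard0
    have : 2 * a' * t = 2 * (a' * t) := by ring
    omega
  obtain ⟨q, r, t', hs, ht, hr, hat'⟩ := numerology a' t _ _ ha' hcard
  obtain ⟨p, hp1, hp2⟩ := exists_distribution t' (a' / 2) r hr
  have hp : ∀ j, 2 * p j ≤ a' := fun j => by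
    have := hp1 j
    omega
  have hS : Fintype.card S = Fintype.card (S0 q a' t' p) := by
    simp only [Fintype.card_sum, Fintype.card_prod, Fintype.card_fin, Fintype.card_sigma, hp2]
    rw [hs]
  have hM : Fintype.card M = Fintype.card (M0 a' t' p) := by
    simp only [Fintype.card_sigma, Fintype.card_fin]
    have h1 : ∑ j : Fin t', (a' - 2 * p j) + 2 * ∑ j, p j = t' * a' := by
      rw [Finset.mul_sum, ← Finset.sum_add_distrib]
      rw [Finset.sum_congr rfl (fun j _ => Nat.sub_add_cancel (hp j))]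
      simp
    rw [hp2] at h1
    have : a' * t' = t' * a' := mul_comm _ _
    omega
  let eS : S ≃ S0 q a' t' p := Fintype.equivOfCardEq hS
  let eM : M ≃ M0 a' t' p := Fintype.equivOfCardEq hM
  let E : (S × Fin 2) ⊕ M ≃ Idx q a' t' p := Equiv.sumCongr (Equiv.prodCongr eS (Equiv.refl _)) eM
  have hE : ∀ ρ, E (tau ρ) = tau (E ρ) := by
    rintro (⟨i, e⟩ | k) <;> rfl
  have hEtau : ∀ π : Idx q a' t' p, E.symm (tau π) = tau (E.symm π) := by
    intro π
    apply E.injective
    rw [hE, Equiv.apply_symm_apply, Equiv.apply_symm_apply]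
  let ψ : Idx q a' t' p × Fin 2 → ((S × Fin 2) ⊕ M) × Fin 2 := fun i => (E.symm i.1, i.2)
  have hψ : Function.Injective ψ := by
    rintro ⟨π, c⟩ ⟨π', c'⟩ h
    simp only [ψ, Prod.mk.injEq] at h
    rw [E.symm.injective h.1, h.2]
  have hli' : LinearIndependent F (A.fam ∘ ψ) := (A.li hB).comp ψ hψ
  have hcardI : Fintype.card (Idx q a' t' p × Fin 2) = finrank F V := by
    rw [Fintype.card_prod, ← Fintype.card_congr E, ← hcard0]
    simp only [Fintype.card_sum, Fintype.card_prod, Fintype.card_fin]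
    ring
  let b' : Basis (Idx q a' t' p × Fin 2) F V :=
    basisOfLinearIndependentOfCardEqFinrank' (A.fam ∘ ψ) hli' hcardI
  have hb' : ∀ i, b' i = A.f (E.symm i.1) i.2 := by
    intro i
    simp only [b', coe_basisOfLinearIndependentOfCardEqFinrank']
    rfl
  let blkP : Idx q a' t' p × Fin 2 → JJ q t' := fun i => blk i.1
  have hcompat : ∀ i, X (b' i) ∈ blockSpan b' blkP (sig q t' (blkP i)) := by
    rintro ⟨π, c⟩
    obtain ⟨α, β, h⟩ := A.hX (E.symm π) c
    rw [hb']
    show X (A.f (E.symm π) c) ∈ _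
    rw [h]
    have key : ∀ e, A.f (tau (E.symm π)) e ∈ blockSpan b' blkP (sig q t' (blk π)) := by
      intro e
      have h1 : A.f (tau (E.symm π)) e = b' (tau π, e) := by
        rw [hb']
        show _ = A.f (E.symm (tau π)) e
        rw [hEtau]
      rw [h1, ← blk_tau]
      exact mem_blockSpan b' blkP (tau π, e)
    exact Submodule.add_mem _ (Submodule.smul_mem _ _ (key 0)) (Submodule.smul_mem _ _ (key 1))
  have hinj : Function.Injective X := by
    intro u v huv
    have h1 : z • u = z • v := by rw [← hX, ← hX, huv]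
    exact smul_right_injective V hz h1
  have hfin : ∀ j, finrank F (blockSpan b' blkP j) = 2 * a' := fun j => by
    rw [finrank_blockSpan]
    exact card_fiber2 hp j
  have hmap : ∀ j, (blockSpan b' blkP j).map X = blockSpan b' blkP (sig q t' j) := by
    intro j
    apply Submodule.eq_of_le_of_finrank_eq
    · exact map_blockSpan_le b' blkP X j _ (fun i hi => by rw [← hi]; exact hcompat i)
    · rw [hfin, ← (Submodule.equivMapOfInjective X hinj _).finrank_eq, hfin]
  have hnondeg : ∀ j, ∀ u ∈ blockSpan b' blkP j, u ≠ 0 →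
      ∃ v ∈ blockSpan b' blkP j, B u v ≠ 0 := by
    intro j u hu hu0
    have hrepr : b'.repr u ≠ 0 := fun h => hu0 ((LinearEquiv.map_eq_zero_iff _).mp h)
    obtain ⟨i, hi⟩ := Finsupp.ne_iff.mp hrepr
    rw [Finsupp.zero_apply] at hi
    have hij : blkP i = j := by
      by_contra hne
      exact hi (repr_eq_zero_of_mem b' blkP hu hne)
    let dual' : Idx q a' t' p × Fin 2 → V := fun k => b' (k.1, Equiv.swap 0 1 k.2)
    have hd : ∀ k, dual' k = A.dual (ψ k) := fun k => hb' _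
    have hbk : ∀ k, b' k = A.fam (ψ k) := fun k => hb' _
    refine ⟨dual' i, ?_, ?_⟩
    · rw [← hij]
      exact mem_blockSpan b' blkP (i.1, Equiv.swap 0 1 i.2)
    · rw [skew hB, neg_ne_zero]
      have h1 := dual_apply_sum B b' dual'
        (fun k l hkl => by
          rw [hd, hbk]
          exact A.dual_other hB _ _ (fun h => hkl (hψ h))) (b'.repr u) i
      rw [b'.sum_repr u] at h1
      rw [h1]
      apply mul_ne_zero hi
      rw [hd, hbk]
      exact A.dual_self hB _
  have horth : ∀ j j', j ≠ j' → ∀ u ∈ blockSpan b' blkP j, ∀ v ∈ blockSpan b' blkP j',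
      B u v = 0 := by
    intro j j' hjj u hu v hv
    induction hu using Submodule.span_induction with
    | mem x hx =>
      obtain ⟨⟨i, hi⟩, rfl⟩ := hx
      induction hv using Submodule.span_induction with
      | mem y hy =>
        obtain ⟨⟨i', hi'⟩, rfl⟩ := hy
        show B (b' i) (b' i') = 0
        rw [hb', hb']
        apply A.orth
        intro h
        have h2 := E.symm.injective h
        apply hjj
        rw [← hi, ← hi']
        show blk i.1 = blk i'.1
        rw [h2]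
      | zero => simp
      | add x y _ _ hx hy => simp [hx, hy]
      | smul c x _ hx => simp [hx]
    | zero => simp
    | add x y _ _ hx hy => simp [hx, hy]
    | smul c x _ hx => simp [hx]
  have hJ : Fintype.card (Fin t) = Fintype.card (JJ q t') := by
    simp only [Fintype.card_sum, Fintype.card_prod, Fintype.card_fin]
    rw [ht]
    ring
  let ε : Fin t ≃ JJ q t' := Fintype.equivOfCardEq hJ
  refine ⟨fun j => blockSpan b' blkP (ε j), fun j => hfin _, ?_, ?_, fun j => hnondeg _,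
    fun j j' hjj => horth _ _ (fun h => hjj (ε.injective h)),
    ⟨ε.trans ((sig q t').trans ε.symm), ?_⟩⟩
  · exact (iSupIndep_blockSpan b' blkP).comp ε.injective
  · rw [← iSup_blockSpan b' blkP]
    exact ε.iSup_comp (g := blockSpan b' blkP)
  · intro j
    simp only [Equiv.trans_apply, Equiv.apply_symm_apply]
    exact hmap _

end main

section concrete
open Matrix
variable {F : Type*} [Field F]

theorem symp_alt (d : ℕ) (v : Fin d ⊕ Fin d → F) :
    v ⬝ᵥ (Matrix.J (Fin d) F *ᵥ v) = 0 := by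
  simp only [Matrix.J, dotProduct, Fintype.sum_sum_type, Matrix.mulVec, Matrix.fromBlocks_apply₁₁,
    Matrix.fromBlocks_apply₁₂, Matrix.fromBlocks_apply₂₁, Matrix.fromBlocks_apply₂₂,
    Matrix.zero_apply, Matrix.neg_apply, Matrix.one_apply, zero_mul, Finset.sum_const_zero,
    zero_add, add_zero, neg_mul, ite_mul, one_mul, Finset.sum_neg_distrib, Finset.sum_ite_eq,
    Finset.mem_univ, if_true, mul_neg]
  rw [neg_add_eq_zero]
  exact Finset.sum_congr rfl (fun i _ => mul_comm _ _)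

theorem symp_iso (d : ℕ) {G : Matrix (Fin d ⊕ Fin d) (Fin d ⊕ Fin d) F}
    (hG : G ∈ Matrix.symplecticGroup (Fin d) F) (v w : Fin d ⊕ Fin d → F) :
    (G *ᵥ v) ⬝ᵥ (Matrix.J (Fin d) F *ᵥ (G *ᵥ w)) = v ⬝ᵥ (Matrix.J (Fin d) F *ᵥ w) := by
  have h := SymplecticGroup.mem_iff'.mp hG
  calc (G *ᵥ v) ⬝ᵥ (Matrix.J (Fin d) F *ᵥ (G *ᵥ w))
      = (v ᵥ* Gᵀ) ⬝ᵥ (Matrix.J (Fin d) F *ᵥ (G *ᵥ w)) := by rw [Matrix.vecMul_transpose]
    _ = v ⬝ᵥ (Gᵀ *ᵥ (Matrix.J (Fin d) F *ᵥ (G *ᵥ w))) := (Matrix.dotProduct_mulVec v Gᵀ _).symm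
    _ = v ⬝ᵥ ((Gᵀ * Matrix.J (Fin d) F * G) *ᵥ w) := by
        rw [Matrix.mulVec_mulVec, Matrix.mulVec_mulVec]
    _ = v ⬝ᵥ (Matrix.J (Fin d) F *ᵥ w) := by rw [h]

end concrete

theorem result {F : Type*} [Field F] [Fintype F] {p : ℕ} [Fact p.Prime] [CharP F p] {q : ℕ} (hq : Fintype.card F = q)
    (d : ℕ) (hd : 2 ≤ d) (hT : (d, q) ≠ (2, 2))
    (a t : ℕ) (hat : 2 * d = a * t) (ha : 2 ≤ a) (hae : Even a) (ht : 2 ≤ t) (hΩ : 2 ∣ Nat.card {D : Fin t → Submodule F (Fin d ⊕ Fin d → F) // (Cfsg.Geo.IsMDecomposition a D ∧ (∀ j, ∀ u ∈ D j, u ≠ 0 → ∃ v ∈ D j, Cfsg.sympForm d F u v ≠ 0) ∧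
          (∀ j j', j ≠ j' → ∀ u ∈ D j, ∀ v ∈ D j', Cfsg.sympForm d F u v = 0))} / Nat.factorial t)
    (x : ↥(Matrix.symplecticGroup (Fin d) F))
    (hx1 : ∃ z : F, ((x ^ 2 : ↥(Matrix.symplecticGroup (Fin d) F)) : Matrix (Fin d ⊕ Fin d) (Fin d ⊕ Fin d) F) = z • (1 : Matrix (Fin d ⊕ Fin d) (Fin d ⊕ Fin d) F))
    (hx2 : ∀ z : F, (x : Matrix (Fin d ⊕ Fin d) (Fin d ⊕ Fin d) F) ≠ z • (1 : Matrix (Fin d ⊕ Fin d) (Fin d ⊕ Fin d) F)) :
    ∃ D : Fin t → Submodule F (Fin d ⊕ Fin d → F), (Cfsg.Geo.IsMDecomposition a D ∧ (∀ j, ∀ u ∈ D j, u ≠ 0 → ∃ v ∈ D j, Cfsg.sympForm d F u v ≠ 0) ∧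
          (∀ j j', j ≠ j' → ∀ u ∈ D j, ∀ v ∈ D j', Cfsg.sympForm d F u v = 0)) ∧
        ∃ σ : Equiv.Perm (Fin t), ∀ j, (D j).map (Matrix.toLin' (x : Matrix (Fin d ⊕ Fin d) (Fin d ⊕ Fin d) F)) = D (σ j) := by
  obtain ⟨z, hz⟩ := hx1
  obtain ⟨a', ha'⟩ := hae
  set G : Matrix (Fin d ⊕ Fin d) (Fin d ⊕ Fin d) F :=
    (x : Matrix (Fin d ⊕ Fin d) (Fin d ⊕ Fin d) F) with hG
  have hGG : G * G = z • 1 := by
    rw [← hz, pow_two]
    rfl
  have hX : ∀ v, Matrix.toLin' G (Matrix.toLin' G v) = z • v := by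
    intro v
    rw [Matrix.toLin'_apply, Matrix.toLin'_apply, Matrix.mulVec_mulVec, hGG, Matrix.smul_mulVec,
      Matrix.one_mulVec]
  have hGinv : ((x⁻¹ : ↥(Matrix.symplecticGroup (Fin d) F)) :
      Matrix (Fin d ⊕ Fin d) (Fin d ⊕ Fin d) F) * G = 1 := by
    have : ((x⁻¹ * x : ↥(Matrix.symplecticGroup (Fin d) F)) :
        Matrix (Fin d ⊕ Fin d) (Fin d ⊕ Fin d) F) = 1 := by
      rw [inv_mul_cancel]
      rfl
    exact this
  have hinj : Function.Injective (Matrix.toLin' G) := by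
    apply Function.LeftInverse.injective
      (g := Matrix.toLin' ((x⁻¹ : ↥(Matrix.symplecticGroup (Fin d) F)) :
        Matrix (Fin d ⊕ Fin d) (Fin d ⊕ Fin d) F))
    intro v
    rw [Matrix.toLin'_apply, Matrix.toLin'_apply, Matrix.mulVec_mulVec, hGinv, Matrix.one_mulVec]
  have hz0 : z ≠ 0 := by
    rintro rfl
    let v : Fin d ⊕ Fin d → F := Pi.single (Sum.inl ⟨0, by omega⟩) 1
    have hv : v ≠ 0 := by
      intro h
      have := congrFun h (Sum.inl ⟨0, by omega⟩)
      simp [v] at this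
    have h1 := hX v
    rw [zero_smul] at h1
    have h2 : Matrix.toLin' G v = 0 := hinj (by rw [h1, map_zero])
    exact hv (hinj (by rw [h2, map_zero]))
  let B : LinearMap.BilinForm F (Fin d ⊕ Fin d → F) := Matrix.toBilin' (Matrix.J (Fin d) F)
  have hBapp : ∀ u v, B u v = Cfsg.sympForm d F u v := fun u v =>
    Matrix.toBilin'_apply' _ u v
  have hnd : B.Nondegenerate :=
    LinearMap.BilinForm.nondegenerate_toBilin'_iff_det_ne_zero.mpr
      (Matrix.isUnit_det_J (Fin d) F).ne_zero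
  have hB : B.IsAlt := fun v => by
    rw [hBapp]
    exact symp_alt d v
  have hiso : ∀ u v, B (Matrix.toLin' G u) (Matrix.toLin' G v) = B u v := by
    intro u v
    rw [hBapp, hBapp, Matrix.toLin'_apply, Matrix.toLin'_apply]
    exact symp_iso d x.2 u v
  have hdim : finrank F (Fin d ⊕ Fin d → F) = 2 * a' * t := by
    rw [Module.finrank_fintype_fun_eq_card, Fintype.card_sum, Fintype.card_fin]
    have : 2 * a' * t = (a' + a') * t := by ring
    rw [this, ← ha', ← hat]
    ring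
  obtain ⟨D, hfin, hind, hsup, hnondeg, horth, σ, hσ⟩ :=
    main_symp B (Matrix.toLin' G) z hz0 hnd hB hiso hX a' t (by omega) hdim
  refine ⟨D, ⟨⟨ht, by omega, fun j => by rw [hfin]; omega, hind, hsup⟩, ?_, ?_⟩, σ, hσ⟩
  · intro j u hu hu0
    obtain ⟨v, hv, hv0⟩ := hnondeg j u hu hu0
    exact ⟨v, hv, by rwa [← hBapp]⟩
  · intro j j' hjj u hu v hv
    rw [← hBapp]
    exact horth j j' hjj u hu v hv

end Cfsg.Agent.S5960
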