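import Cfsg.Statements.S5962
import Cfsg.Agent.S5960
import Mathlib

set_option autoImplicit false
open scoped MatrixGroups
open Cfsg

namespace Cfsg.Agent.S5962

open Module Cfsg.Agent.S5957 Cfsg.Agent.S5960

universe u

section fam
variable {F : Type*} [Field F]

/-- a refined adapted family: the pairs are explicit, the invariant planes are either spanned by
two eigenvectors or of the form `(v, X v)`. -/
structure RFam {V : Type u} [AddCommGroup V] [Module F V] (B : LinearMap.BilinForm F V)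
    (X : V →ₗ[F] V) (z : F) (S M : Type) where
  f : (S × Fin 2) ⊕ M → Fin 2 → V
  hyp : ∀ π, B (f π 0) (f π 1) ≠ 0
  orth : ∀ π π', π ≠ π' → ∀ c c', B (f π c) (f π' c') = 0
  hS0 : ∀ i c, X (f (Sum.inl (i, 0)) c) = f (Sum.inl (i, 1)) c
  hS1 : ∀ i c, X (f (Sum.inl (i, 1)) c) = z • f (Sum.inl (i, 0)) c
  hM : ∀ k, (∀ c, ∃ α : F, X (f (Sum.inr k) c) = α • f (Sum.inr k) c) ∨
    (X (f (Sum.inr k) 0) = f (Sum.inr k) 1 ∧ X (f (Sum.inr k) 1) = z • f (Sum.inr k) 0)

variable {V : Type u} [AddCommGroup V] [Module F V] {B : LinearMap.BilinForm F V}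
  {X : V →ₗ[F] V} {z : F} {S M : Type}

/-- forgetting the refinement. -/
def RFam.toSFam (A : RFam B X z S M) : SFam B X S M where
  f := A.f
  hyp := A.hyp
  orth := A.orth
  hX := by
    rintro (⟨i, e⟩ | k) c
    · rcases fin2_cases e with rfl | rfl
      · have ht : tau (Sum.inl (i, (0 : Fin 2)) : (S × Fin 2) ⊕ M) = Sum.inl (i, 1) := by
          simp [tau]
        rw [ht, A.hS0]
        rcases fin2_cases c with rfl | rfl
        · exact ⟨1, 0, by simp⟩
        · exact ⟨0, 1, by simp⟩
      · have ht : tau (Sum.inl (i, (1 : Fin 2)) : (S × Fin 2) ⊕ M) = Sum.inl (i, 0) := by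
          simp [tau]
        rw [ht, A.hS1]
        rcases fin2_cases c with rfl | rfl
        · exact ⟨z, 0, by simp⟩
        · exact ⟨0, z, by simp⟩
    · show ∃ α β : F, X (A.f (Sum.inr k) c) = α • A.f (Sum.inr k) 0 + β • A.f (Sum.inr k) 1
      rcases A.hM k with h | ⟨h0, h1⟩
      · obtain ⟨α, hα⟩ := h c
        rcases fin2_cases c with rfl | rfl
        · exact ⟨α, 0, by simp [hα]⟩
        · exact ⟨0, α, by simp [hα]⟩
      · rcases fin2_cases c with rfl | rfl
        · exact ⟨0, 1, by simp [h0]⟩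
        · exact ⟨z, 0, by simp [h1]⟩

theorem glueR (hB : B.IsAlt) {S₁ M₁ S₂ M₂ : Type} (A₁ : RFam B X z S₁ M₁) (W : Submodule F V)
    (hW : ∀ w ∈ W, X w ∈ W) (hQW : ∀ π c, ∀ w ∈ W, B (A₁.f π c) w = 0)
    (A₂ : RFam (B.restrict W) (X.restrict hW) z S₂ M₂) :
    Nonempty (RFam B X z (S₁ ⊕ S₂) (M₁ ⊕ M₂)) := by
  refine ⟨⟨fun π c => Sum.elim (fun ρ => A₁.f ρ c) (fun ρ => (A₂.f ρ c : V)) (gmap π),
    ?_, ?_, ?_, ?_, ?_⟩⟩
  · intro π
    rcases gmap π with ρ | ρ
    · exact A₁.hyp ρ
    · exact A₂.hyp ρ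
  · intro π π' hne c c'
    have hne' : gmap π ≠ gmap π' := fun h => hne (gmap_injective h)
    revert hne'
    rcases gmap π with ρ | ρ <;> rcases gmap π' with ρ' | ρ' <;> intro hne'
    · exact A₁.orth ρ ρ' (fun e => hne' (congrArg _ e)) c c'
    · exact hQW ρ c _ (A₂.f ρ' c').2
    · show B (A₂.f ρ c : V) (A₁.f ρ' c') = 0
      rw [skew hB, hQW ρ' c' _ (A₂.f ρ c).2, neg_zero]
    · exact A₂.orth ρ ρ' (fun e => hne' (congrArg _ e)) c c'
  · rintro (i | i) c
    · exact A₁.hS0 i c
    · exact congrArg Subtype.val (A₂.hS0 i c)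
  · rintro (i | i) c
    · exact A₁.hS1 i c
    · exact congrArg Subtype.val (A₂.hS1 i c)
  · rintro (k | k)
    · exact A₁.hM k
    · rcases A₂.hM k with h | ⟨h0, h1⟩
      · left
        intro c
        obtain ⟨α, hα⟩ := h c
        exact ⟨α, congrArg Subtype.val hα⟩
      · right
        exact ⟨congrArg Subtype.val h0, congrArg Subtype.val h1⟩

theorem pieceR_fix (u u' : V) (h : B u u' ≠ 0) (h0 : ∃ α : F, X u = α • u)
    (h1 : ∃ α : F, X u' = α • u') : Nonempty (RFam B X z Empty Unit) := by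
  refine ⟨⟨fun _ c => ![u, u'] c, ?_, ?_, ?_, ?_, ?_⟩⟩
  · intro π
    exact h
  · rintro (⟨i, _⟩ | ⟨⟩) (⟨i', _⟩ | ⟨⟩) hne
    · exact i.elim
    · exact i.elim
    · exact i'.elim
    · exact absurd rfl hne
  · intro i
    exact i.elim
  · intro i
    exact i.elim
  · intro k
    left
    intro c
    rcases fin2_cases c with rfl | rfl
    · exact h0
    · exact h1

theorem pieceR_swap (hX : ∀ v, X (X v) = z • v) (v : V) (h : B v (X v) ≠ 0) :
    Nonempty (RFam B X z Empty Unit) := by
  refine ⟨⟨fun _ c => ![v, X v] c, ?_, ?_, ?_, ?_, ?_⟩⟩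
  · intro π
    exact h
  · rintro (⟨i, _⟩ | ⟨⟩) (⟨i', _⟩ | ⟨⟩) hne
    · exact i.elim
    · exact i.elim
    · exact i'.elim
    · exact absurd rfl hne
  · intro i
    exact i.elim
  · intro i
    exact i.elim
  · intro k
    right
    exact ⟨rfl, hX v⟩

theorem pieceR_S (hB : B.IsAlt) (hiso : ∀ u v, B (X u) (X v) = B u v)
    (hX : ∀ v, X (X v) = z • v) (g : Fin 2 → V) (h : B (g 0) (g 1) ≠ 0)
    (hg : ∀ c c', B (g c) (X (g c')) = 0) : Nonempty (RFam B X z Unit Empty) := by
  refine ⟨⟨fun π c => match π with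
    | Sum.inl (_, e) => ![g c, X (g c)] e
    | Sum.inr k => k.elim, ?_, ?_, ?_, ?_, ?_⟩⟩
  · rintro (⟨⟨⟩, e⟩ | k)
    · rcases fin2_cases e with rfl | rfl
      · exact h
      · show B (X (g 0)) (X (g 1)) ≠ 0
        rw [hiso]
        exact h
    · exact k.elim
  · rintro (⟨⟨⟩, e⟩ | k) (⟨⟨⟩, e'⟩ | k') hne c c'
    · have hee : e ≠ e' := fun h => hne (by rw [h])
      rcases fin2_cases e with rfl | rfl <;> rcases fin2_cases e' with rfl | rfl
      · exact absurd rfl hee
      · exact hg c c'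
      · show B (X (g c)) (g c') = 0
        rw [skew hB, hg, neg_zero]
      · exact absurd rfl hee
    · exact k'.elim
    · exact k.elim
    · exact k.elim
  · rintro ⟨⟩ c
    rfl
  · rintro ⟨⟩ c
    exact hX (g c)
  · intro k
    exact k.elim

end fam

section induction
variable {F : Type*} [Field F]
variable {V : Type u} [AddCommGroup V] [Module F V] [FiniteDimensional F V]
  {B : LinearMap.BilinForm F V} {X : V →ₗ[F] V} {S M : Type}

theorem exists_pieceR (hnd : B.Nondegenerate) (hB : B.IsAlt)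
    (hiso : ∀ u v, B (X u) (X v) = B u v) {z : F} (hX : ∀ v, X (X v) = z • v)
    (hpos : 0 < finrank F V) :
    ∃ (S M : Type) (_ : Fintype S) (_ : Fintype M), Nonempty (RFam B X z S M) ∧
      0 < 2 * Fintype.card S + Fintype.card M := by
  by_cases hA : ∃ v, B v (X v) ≠ 0
  · obtain ⟨v, hv⟩ := hA
    exact ⟨Empty, Unit, inferInstance, inferInstance, pieceR_swap hX v hv, by simp⟩
  · push Not at hA
    by_cases hall : ∀ v, ∃ μ : F, X v = μ • v
    · haveI : Nontrivial V := Module.nontrivial_of_finrank_pos hpos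
      obtain ⟨v, hv⟩ := exists_ne (0 : V)
      have : ∃ w, B v w ≠ 0 := by
        by_contra hcon
        push Not at hcon
        exact hv (hnd.1 v hcon)
      obtain ⟨w, hw⟩ := this
      exact ⟨Empty, Unit, inferInstance, inferInstance,
        pieceR_fix v w hw (hall v) (hall w), by simp⟩
    · push Not at hall
      obtain ⟨e1, he1⟩ := hall
      have hnot : e1 ∉ Submodule.span F {X e1} := by
        intro h
        obtain ⟨μ, hμ⟩ := Submodule.mem_span_singleton.mp h
        apply he1 (μ * z)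
        conv_lhs => rw [← hμ]
        rw [map_smul, hX, smul_smul]
      obtain ⟨φ, hφ1, hφ2⟩ := Submodule.exists_dual_map_eq_bot_of_notMem hnot inferInstance
      have hφ3 : φ (X e1) = 0 := by
        have : φ (X e1) ∈ (Submodule.span F {X e1}).map φ :=
          ⟨X e1, Submodule.mem_span_singleton_self _, rfl⟩
        rw [hφ2] at this
        exact (Submodule.mem_bot F).mp this
      set f1 : V := (B.toDual hnd).symm φ with hf1
      have hf1a : B f1 e1 ≠ 0 := by
        rw [hf1, LinearMap.BilinForm.apply_toDual_symm_apply]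
        exact hφ1
      have hf1b : B f1 (X e1) = 0 := by
        rw [hf1, LinearMap.BilinForm.apply_toDual_symm_apply]
        exact hφ3
      have hpol : B e1 (X f1) = 0 := by
        have h1 := hA (e1 + f1)
        simp only [map_add, LinearMap.add_apply, hA e1, hA f1, hf1b] at h1
        simpa using h1
      refine ⟨Unit, Empty, inferInstance, inferInstance,
        pieceR_S hB hiso hX ![e1, f1] ?_ ?_, by simp⟩
      · show B e1 f1 ≠ 0
        rw [skew hB, neg_ne_zero]
        exact hf1a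
      · intro c c'
        rcases fin2_cases c with rfl | rfl <;> rcases fin2_cases c' with rfl | rfl
        · exact hA e1
        · exact hpol
        · exact hf1b
        · exact hA f1

theorem exists_rfam (n : ℕ) : ∀ (V : Type u) [AddCommGroup V] [Module F V]
    [FiniteDimensional F V] (B : LinearMap.BilinForm F V) (X : V →ₗ[F] V) (z : F),
    z ≠ 0 → B.Nondegenerate → B.IsAlt → (∀ u v, B (X u) (X v) = B u v) →
    (∀ v, X (X v) = z • v) → finrank F V = n →
    ∃ (S M : Type) (_ : Fintype S) (_ : Fintype M), Nonempty (RFam B X z S M) ∧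
      2 * (2 * Fintype.card S + Fintype.card M) = n := by
  induction n using Nat.strong_induction_on with
  | _ n ih =>
  intro V _ _ _ B X z hz hnd hB hiso hX hn
  rcases Nat.eq_zero_or_pos n with h0 | hpos
  · subst h0
    haveI : Subsingleton V := Module.finrank_zero_iff.mp hn
    refine ⟨Empty, Empty, inferInstance, inferInstance,
      ⟨⟨fun _ _ => 0, ?_, ?_, ?_, ?_, ?_⟩⟩, by simp⟩
    · rintro (⟨i, _⟩ | k)
      · exact i.elim
      · exact k.elim
    · rintro (⟨i, _⟩ | k)
      · exact i.elim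
      · exact k.elim
    · intro i
      exact i.elim
    · intro i
      exact i.elim
    · intro k
      exact k.elim
  · obtain ⟨S₁, M₁, _, _, ⟨A₁⟩, hcard⟩ := exists_pieceR hnd hB hiso hX (hn ▸ hpos)
    obtain ⟨W, hWinv, hQW, hWnd, hWdim⟩ := exists_compl hnd hB hiso hz hX A₁.toSFam
    have hlt : finrank F W < n := by omega
    have hBW : (B.restrict W).IsAlt := fun w => hB (w : V)
    obtain ⟨S₂, M₂, _, _, ⟨A₂⟩, hcard₂⟩ := ih (finrank F W) hlt W (B.restrict W)
      (X.restrict hWinv) z hz hWnd hBW (fun u v => hiso u v)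
      (fun w => Subtype.ext (by
        rw [LinearMap.coe_restrict_apply, LinearMap.coe_restrict_apply, hX]
        rfl)) rfl
    refine ⟨S₁ ⊕ S₂, M₁ ⊕ M₂, inferInstance, inferInstance, glueR hB A₁ W hWinv hQW A₂, ?_⟩
    simp only [Fintype.card_sum]
    omega

end induction

section main
variable {F : Type*} [Field F]
variable {V : Type u} [AddCommGroup V] [Module F V]

theorem lagr_of_basis {ι : Type*} (b : Basis ι F V) (blkL : ι → Fin 2) (σ : Fin 2 → Fin 2)
    (hσ : ∀ c, σ (σ c) = c) (B : LinearMap.BilinForm F V) (X : V →ₗ[F] V) (z : F) (hz : z ≠ 0)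
    (hX : ∀ v, X (X v) = z • v) (h0 : ∀ i i', blkL i = blkL i' → B (b i) (b i') = 0)
    (hc : ∀ i, X (b i) ∈ blockSpan b blkL (σ (blkL i))) :
    IsCompl (blockSpan b blkL 0) (blockSpan b blkL 1) ∧
      (∀ c, ∀ u ∈ blockSpan b blkL c, ∀ v ∈ blockSpan b blkL c, B u v = 0) ∧
      (∀ c, (blockSpan b blkL c).map X = blockSpan b blkL (σ c)) := by
  refine ⟨⟨?_, ?_⟩, ?_, ?_⟩
  · exact (iSupIndep_blockSpan b blkL).pairwiseDisjoint (by decide : (0 : Fin 2) ≠ 1)
  · rw [codisjoint_iff, eq_top_iff, ← iSup_blockSpan b blkL]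
    apply iSup_le
    intro j
    rcases fin2_cases j with rfl | rfl
    · exact le_sup_left
    · exact le_sup_right
  · intro c u hu v hv
    induction hu using Submodule.span_induction with
    | mem x hx =>
      obtain ⟨⟨i, hi⟩, rfl⟩ := hx
      induction hv using Submodule.span_induction with
      | mem y hy =>
        obtain ⟨⟨i', hi'⟩, rfl⟩ := hy
        exact h0 i i' (by rw [hi, hi'])
      | zero => simp
      | add x y _ _ hx hy => simp [hx, hy]
      | smul c x _ hx => simp [hx]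
    | zero => simp
    | add x y _ _ hx hy => simp [hx, hy]
    | smul c x _ hx => simp [hx]
  · have hle : ∀ c, (blockSpan b blkL c).map X ≤ blockSpan b blkL (σ c) := fun c =>
      map_blockSpan_le b blkL X c _ (fun i hi => by rw [← hi]; exact hc i)
    intro c
    apply le_antisymm (hle c)
    intro w hw
    have h1 : X w ∈ blockSpan b blkL c := by
      have := hle (σ c) (Submodule.mem_map_of_mem hw)
      rwa [hσ] at this
    refine ⟨z⁻¹ • X w, Submodule.smul_mem _ _ h1, ?_⟩
    rw [map_smul, hX, smul_smul, inv_mul_cancel₀ hz, one_smul]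

variable [FiniteDimensional F V]

/-- the block of a basis vector in the "swap" case. -/
def blkSwap {S M : Type} : ((S × Fin 2) ⊕ M) × Fin 2 → Fin 2
  | (Sum.inl (_, e), c) => e + c
  | (Sum.inr _, c) => c

theorem main_struct (B : LinearMap.BilinForm F V) (X : V →ₗ[F] V) (z : F) (hz : z ≠ 0)
    (hnd : B.Nondegenerate) (hB : B.IsAlt) (hiso : ∀ u v, B (X u) (X v) = B u v)
    (hX : ∀ v, X (X v) = z • v) (h2 : (2 : F) ≠ 0)
    (hcase : z = 1 ∨ (z = -1 ∧ ¬ ∃ i : F, i * i = -1)) :
    ∃ U W : Submodule F V, IsCompl U W ∧ (∀ u ∈ U, ∀ v ∈ U, B u v = 0) ∧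
      (∀ u ∈ W, ∀ v ∈ W, B u v = 0) ∧
      ((U.map X = U ∧ W.map X = W) ∨ (U.map X = W ∧ W.map X = U)) := by
  classical
  obtain ⟨S, M, _, _, ⟨A⟩, hcard0⟩ := exists_rfam (finrank F V) V B X z hz hnd hB hiso hX rfl
  have hcardI : Fintype.card (((S × Fin 2) ⊕ M) × Fin 2) = finrank F V := by
    rw [← hcard0]
    simp only [Fintype.card_sum, Fintype.card_prod, Fintype.card_fin]
    ring
  let b : Basis (((S × Fin 2) ⊕ M) × Fin 2) F V :=
    basisOfLinearIndependentOfCardEqFinrank' A.toSFam.fam (A.toSFam.li hB) hcardI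
  have hb : ∀ i, b i = A.f i.1 i.2 := by
    intro i
    simp only [b, coe_basisOfLinearIndependentOfCardEqFinrank']
    rfl
  have hb' : ∀ π c, A.f π c = b (π, c) := fun π c => (hb (π, c)).symm
  -- planes of the second kind force `z = -1`
  have hswapz : ∀ k, (X (A.f (Sum.inr k) 0) = A.f (Sum.inr k) 1 ∧
      X (A.f (Sum.inr k) 1) = z • A.f (Sum.inr k) 0) → z = -1 := by
    rintro k ⟨h0, h1⟩
    have h3 := hiso (A.f (Sum.inr k) 0) (A.f (Sum.inr k) 1)
    rw [h0, h1, map_smul, smul_eq_mul, skew hB] at h3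
    have h4 := A.hyp (Sum.inr k)
    have h5 : (z + 1) * B (A.f (Sum.inr k) 0) (A.f (Sum.inr k) 1) = 0 := by
      linear_combination -h3
    rcases mul_eq_zero.mp h5 with h | h
    · linear_combination h
    · exact absurd h h4
  -- planes of the first kind make `z` a square
  have hfixz : ∀ k, (∀ c, ∃ α : F, X (A.f (Sum.inr k) c) = α • A.f (Sum.inr k) c) →
      ∃ α : F, α * α = z := by
    intro k h
    obtain ⟨α, hα⟩ := h 0
    refine ⟨α, ?_⟩
    have h1 := hX (A.f (Sum.inr k) 0)
    rw [hα, map_smul, hα, smul_smul] at h1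
    have h3 : A.f (Sum.inr k) 0 ≠ 0 := by
      intro h0
      have := A.hyp (Sum.inr k)
      rw [h0] at this
      simp at this
    have h4 : (α * α - z) • A.f (Sum.inr k) 0 = 0 := by
      rw [sub_smul, h1, sub_self]
    rcases smul_eq_zero.mp h4 with h | h
    · linear_combination h
    · exact absurd h h3
  rcases hcase with rfl | ⟨rfl, hns⟩
  · -- everything is fixed
    obtain ⟨h1, h2', h3⟩ := lagr_of_basis b (fun i => i.2) id (fun _ => rfl) B X 1 hz hX
      (by
        rintro ⟨π, c⟩ ⟨π', c'⟩ h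
        simp only at h
        subst h
        rw [hb, hb]
        by_cases hπ : π = π'
        · subst hπ
          exact hB _
        · exact A.orth π π' hπ _ _)
      (by
        rintro ⟨π, c⟩
        rw [hb]
        show X (A.f π c) ∈ blockSpan b (fun i => i.2) c
        rcases π with ⟨i, e⟩ | k
        · rcases fin2_cases e with rfl | rfl
          · rw [A.hS0, hb']
            exact mem_blockSpan b (fun i => i.2) (_, c)
          · rw [A.hS1, hb']
            exact Submodule.smul_mem _ _ (mem_blockSpan b (fun i => i.2) (_, c))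
        · rcases A.hM k with h | h
          · obtain ⟨α, hα⟩ := h c
            rw [hα, hb']
            exact Submodule.smul_mem _ _ (mem_blockSpan b (fun i => i.2) (_, c))
          · exfalso
            have := hswapz k h
            apply h2
            linear_combination this)
    exact ⟨_, _, h1, h2' 0, h2' 1, Or.inl ⟨h3 0, h3 1⟩⟩
  · -- everything is swapped
    obtain ⟨h1, h2', h3⟩ := lagr_of_basis b blkSwap (fun c => c + 1)
      (fun c => by fin_cases c <;> rfl) B X (-1) hz hX
      (by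
        rintro ⟨π, c⟩ ⟨π', c'⟩ h
        rw [hb, hb]
        by_cases hπ : π = π'
        · subst hπ
          have hcc : c = c' := by
            rcases π with ⟨i, e⟩ | k
            · exact add_left_cancel h
            · exact h
          subst hcc
          exact hB _
        · exact A.orth π π' hπ _ _)
      (by
        rintro ⟨π, c⟩
        rw [hb]
        rcases π with ⟨i, e⟩ | k
        · rcases fin2_cases e with rfl | rfl
          · show X (A.f (Sum.inl (i, 0)) c) ∈ blockSpan b blkSwap (0 + c + 1)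
            rw [A.hS0, hb']
            have : (0 + c + 1 : Fin 2) = blkSwap ((Sum.inl (i, 1) : (S × Fin 2) ⊕ M), c) := by
              show 0 + c + 1 = 1 + c
              fin_cases c <;> rfl
            rw [this]
            exact mem_blockSpan b blkSwap _
          · show X (A.f (Sum.inl (i, 1)) c) ∈ blockSpan b blkSwap (1 + c + 1)
            rw [A.hS1, hb']
            have : (1 + c + 1 : Fin 2) = blkSwap ((Sum.inl (i, 0) : (S × Fin 2) ⊕ M), c) := by
              show 1 + c + 1 = 0 + c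
              fin_cases c <;> rfl
            rw [this]
            exact Submodule.smul_mem _ _ (mem_blockSpan b blkSwap _)
        · show X (A.f (Sum.inr k) c) ∈ blockSpan b blkSwap (c + 1)
          rcases A.hM k with h | ⟨h0, h1⟩
          · exfalso
            exact hns (hfixz k h)
          · rcases fin2_cases c with rfl | rfl
            · rw [h0, hb']
              exact mem_blockSpan b blkSwap ((Sum.inr k : (S × Fin 2) ⊕ M), 1)
            · rw [h1, hb']
              exact Submodule.smul_mem _ _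
                (mem_blockSpan b blkSwap ((Sum.inr k : (S × Fin 2) ⊕ M), 0)))
    exact ⟨_, _, h1, h2' 0, h2' 1, Or.inr ⟨h3 0, h3 1⟩⟩

omit [FiniteDimensional F V] in
theorem main_eigen (B : LinearMap.BilinForm F V) (X : V →ₗ[F] V)
    (hiso : ∀ u v, B (X u) (X v) = B u v) (h2 : (2 : F) ≠ 0) (i : F) (hi : i * i = -1)
    (hX : ∀ v, X (X v) = (-1 : F) • v) :
    ∃ U W : Submodule F V, IsCompl U W ∧ (∀ u ∈ U, ∀ v ∈ U, B u v = 0) ∧
      (∀ u ∈ W, ∀ v ∈ W, B u v = 0) ∧
      ((U.map X = U ∧ W.map X = W) ∨ (U.map X = W ∧ W.map X = U)) := by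
  have hi0 : i ≠ 0 := by
    rintro rfl
    simp at hi
  have key : ∀ μ : F, μ * μ = -1 →
      (∀ u ∈ LinearMap.ker (X - μ • LinearMap.id), ∀ v ∈ LinearMap.ker (X - μ • LinearMap.id),
        B u v = 0) ∧
      (LinearMap.ker (X - μ • LinearMap.id)).map X = LinearMap.ker (X - μ • LinearMap.id) := by
    intro μ hμ
    have hμ0 : μ ≠ 0 := by
      rintro rfl
      simp at hμ
    have hmem : ∀ u, u ∈ LinearMap.ker (X - μ • LinearMap.id) ↔ X u = μ • u := by
      intro u
      rw [LinearMap.mem_ker, LinearMap.sub_apply, LinearMap.smul_apply, LinearMap.id_apply,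
        sub_eq_zero]
    constructor
    · intro u hu v hv
      rw [hmem] at hu hv
      have h3 := hiso u v
      rw [hu, hv] at h3
      simp only [map_smul, LinearMap.smul_apply, smul_eq_mul] at h3
      have h4 : 2 * B u v = 0 := by linear_combination -h3 + B u v * hμ
      rcases mul_eq_zero.mp h4 with h | h
      · exact absurd h h2
      · exact h
    · apply le_antisymm
      · rintro _ ⟨u, hu, rfl⟩
        have hu' := (hmem u).mp hu
        rw [hu']
        exact Submodule.smul_mem _ _ hu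
      · intro u hu
        refine ⟨μ⁻¹ • u, Submodule.smul_mem _ _ hu, ?_⟩
        rw [map_smul, (hmem u).mp hu, smul_smul, inv_mul_cancel₀ hμ0, one_smul]
  have hi' : (-i) * (-i) = -1 := by rw [neg_mul_neg, hi]
  obtain ⟨hU1, hU2⟩ := key i hi
  obtain ⟨hW1, hW2⟩ := key (-i) hi'
  refine ⟨LinearMap.ker (X - i • LinearMap.id), LinearMap.ker (X - (-i) • LinearMap.id), ⟨?_, ?_⟩,
    hU1, hW1, Or.inl ⟨hU2, hW2⟩⟩
  · rw [Submodule.disjoint_def]
    intro v hv1 hv2
    rw [LinearMap.mem_ker, LinearMap.sub_apply, LinearMap.smul_apply, LinearMap.id_apply,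
      sub_eq_zero] at hv1 hv2
    have h3 : (2 * i) • v = 0 := by
      have : i • v = (-i) • v := by rw [← hv1, ← hv2]
      rw [neg_smul] at this
      rw [two_mul, add_smul]
      nth_rewrite 2 [this]
      rw [add_neg_cancel]
    rcases smul_eq_zero.mp h3 with h | h
    · exact absurd h (mul_ne_zero h2 hi0)
    · exact h
  · rw [codisjoint_iff, eq_top_iff]
    intro v _
    have h2i : (2 * i) ≠ 0 := mul_ne_zero h2 hi0
    rw [Submodule.mem_sup]
    refine ⟨(2 * i)⁻¹ • (X v + i • v), ?_, (2 * i)⁻¹ • (i • v - X v), ?_, ?_⟩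
    · apply Submodule.smul_mem
      rw [LinearMap.mem_ker, LinearMap.sub_apply, LinearMap.smul_apply, LinearMap.id_apply,
        map_add, map_smul, hX, smul_add, smul_smul, hi]
      abel
    · apply Submodule.smul_mem
      rw [LinearMap.mem_ker, LinearMap.sub_apply, LinearMap.smul_apply, LinearMap.id_apply,
        map_sub, map_smul, hX, smul_sub, smul_smul, neg_mul, hi, neg_smul, neg_smul, neg_smul,
        neg_smul]
      abel
    · rw [← smul_add]
      have : X v + i • v + (i • v - X v) = (2 * i) • v := by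
        rw [two_mul, add_smul]
        abel
      rw [this, smul_smul, inv_mul_cancel₀ h2i, one_smul]

end main

theorem result {F : Type*} [Field F] [Fintype F] {p : ℕ} [Fact p.Prime] [CharP F p] {q : ℕ} (hq : Fintype.card F = q)
    (d : ℕ) (hd : 2 ≤ d) (hT : (d, q) ≠ (2, 2)) (hodd : Odd q)
    (hΩ : 2 ∣ Nat.card {P : Submodule F (Fin d ⊕ Fin d → F) × Submodule F (Fin d ⊕ Fin d → F) // IsCompl P.1 P.2 ∧ (∀ u ∈ P.1, ∀ v ∈ P.1, Cfsg.sympForm d F u v = 0) ∧ (∀ u ∈ P.2, ∀ v ∈ P.2, Cfsg.sympForm d F u v = 0)} / 2)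
    (x : ↥(Matrix.symplecticGroup (Fin d) F))
    (hx1 : ∃ z : F, ((x ^ 2 : ↥(Matrix.symplecticGroup (Fin d) F)) : Matrix (Fin d ⊕ Fin d) (Fin d ⊕ Fin d) F) = z • (1 : Matrix (Fin d ⊕ Fin d) (Fin d ⊕ Fin d) F))
    (hx2 : ∀ z : F, (x : Matrix (Fin d ⊕ Fin d) (Fin d ⊕ Fin d) F) ≠ z • (1 : Matrix (Fin d ⊕ Fin d) (Fin d ⊕ Fin d) F)) :
    ∃ U W : Submodule F (Fin d ⊕ Fin d → F), IsCompl U W ∧ (∀ u ∈ U, ∀ v ∈ U, Cfsg.sympForm d F u v = 0) ∧ (∀ u ∈ W, ∀ v ∈ W, Cfsg.sympForm d F u v = 0) ∧
        ((U.map (Matrix.toLin' (x : Matrix (Fin d ⊕ Fin d) (Fin d ⊕ Fin d) F)) = U ∧ W.map (Matrix.toLin' (x : Matrix (Fin d ⊕ Fin d) (Fin d ⊕ Fin d) F)) = W) ∨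
         (U.map (Matrix.toLin' (x : Matrix (Fin d ⊕ Fin d) (Fin d ⊕ Fin d) F)) = W ∧ W.map (Matrix.toLin' (x : Matrix (Fin d ⊕ Fin d) (Fin d ⊕ Fin d) F)) = U)) := by
  obtain ⟨z, hz⟩ := hx1
  set G : Matrix (Fin d ⊕ Fin d) (Fin d ⊕ Fin d) F :=
    (x : Matrix (Fin d ⊕ Fin d) (Fin d ⊕ Fin d) F) with hG
  have hGG : G * G = z • 1 := by
    rw [← hz, pow_two]
    rfl
  have hX : ∀ v, Matrix.toLin' G (Matrix.toLin' G v) = z • v := by
    intro v
    rw [Matrix.toLin'_apply, Matrix.toLin'_apply, Matrix.mulVec_mulVec, hGG, Matrix.smul_mulVec,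
      Matrix.one_mulVec]
  have hGinv : ((x⁻¹ : ↥(Matrix.symplecticGroup (Fin d) F)) :
      Matrix (Fin d ⊕ Fin d) (Fin d ⊕ Fin d) F) * G = 1 := by
    have : ((x⁻¹ * x : ↥(Matrix.symplecticGroup (Fin d) F)) :
        Matrix (Fin d ⊕ Fin d) (Fin d ⊕ Fin d) F) = 1 := by
      rw [inv_mul_cancel]
      rfl
    exact this
  have hinj : Function.Injective (Matrix.toLin' G) := by
    apply Function.LeftInverse.injective
      (g := Matrix.toLin' ((x⁻¹ : ↥(Matrix.symplecticGroup (Fin d) F)) :
        Matrix (Fin d ⊕ Fin d) (Fin d ⊕ Fin d) F))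
    intro v
    rw [Matrix.toLin'_apply, Matrix.toLin'_apply, Matrix.mulVec_mulVec, hGinv, Matrix.one_mulVec]
  let v0 : Fin d ⊕ Fin d → F := Pi.single (Sum.inl ⟨0, by omega⟩) 1
  have hv0 : v0 ≠ 0 := by
    intro h
    have := congrFun h (Sum.inl ⟨0, by omega⟩)
    simp [v0] at this
  have hz0 : z ≠ 0 := by
    rintro rfl
    have h1 := hX v0
    rw [zero_smul] at h1
    have h2 : Matrix.toLin' G v0 = 0 := hinj (by rw [h1, map_zero])
    exact hv0 (hinj (by rw [h2, map_zero]))
  let B : LinearMap.BilinForm F (Fin d ⊕ Fin d → F) := Matrix.toBilin' (Matrix.J (Fin d) F)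
  have hBapp : ∀ u v, B u v = Cfsg.sympForm d F u v := fun u v =>
    Matrix.toBilin'_apply' _ u v
  have hnd : B.Nondegenerate :=
    LinearMap.BilinForm.nondegenerate_toBilin'_iff_det_ne_zero.mpr
      (Matrix.isUnit_det_J (Fin d) F).ne_zero
  have hB : B.IsAlt := fun v => by
    rw [hBapp]
    exact symp_alt d v
  have hiso : ∀ u v, B (Matrix.toLin' G u) (Matrix.toLin' G v) = B u v := by
    intro u v
    rw [hBapp, hBapp, Matrix.toLin'_apply, Matrix.toLin'_apply]
    exact symp_iso d x.2 u v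
  have h2 : (2 : F) ≠ 0 := by
    intro h
    have h3 : ringChar F = 2 := CharP.ringChar_of_prime_eq_zero Nat.prime_two h
    have h4 := FiniteField.even_card_of_char_two h3
    rw [hq] at h4
    have := Nat.odd_iff.mp hodd
    omega
  have hzz : z * z = 1 := by
    have : ∃ w, B v0 w ≠ 0 := by
      by_contra hcon
      push Not at hcon
      exact hv0 (hnd.1 v0 hcon)
    obtain ⟨w, hw⟩ := this
    have h3 : B (Matrix.toLin' G (Matrix.toLin' G v0)) (Matrix.toLin' G (Matrix.toLin' G w)) =
        B v0 w := by rw [hiso, hiso]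
    rw [hX, hX] at h3
    simp only [map_smul, LinearMap.smul_apply, smul_eq_mul] at h3
    have h4 : (z * z - 1) * B v0 w = 0 := by linear_combination h3
    rcases mul_eq_zero.mp h4 with h | h
    · linear_combination h
    · exact absurd h hw
  have hz1 : z = 1 ∨ z = -1 := by
    have : (z - 1) * (z + 1) = 0 := by linear_combination hzz
    rcases mul_eq_zero.mp this with h | h
    · left
      linear_combination h
    · right
      linear_combination h
  have hmain : ∃ U W : Submodule F (Fin d ⊕ Fin d → F), IsCompl U W ∧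
      (∀ u ∈ U, ∀ v ∈ U, B u v = 0) ∧ (∀ u ∈ W, ∀ v ∈ W, B u v = 0) ∧
      ((U.map (Matrix.toLin' G) = U ∧ W.map (Matrix.toLin' G) = W) ∨
        (U.map (Matrix.toLin' G) = W ∧ W.map (Matrix.toLin' G) = U)) := by
    rcases hz1 with h1 | h1
    · exact main_struct B (Matrix.toLin' G) z hz0 hnd hB hiso hX h2 (Or.inl h1)
    · by_cases hsq : ∃ i : F, i * i = -1
      · obtain ⟨i, hi⟩ := hsq
        exact main_eigen B (Matrix.toLin' G) hiso h2 i hi (fun v => by rw [hX, h1])
      · exact main_struct B (Matrix.toLin' G) z hz0 hnd hB hiso hX h2 (Or.inr ⟨h1, hsq⟩)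
  obtain ⟨U, W, hc, hU, hW, hmap⟩ := hmain
  exact ⟨U, W, hc, fun u hu v hv => by rw [← hBapp]; exact hU u hu v hv,
    fun u hu v hv => by rw [← hBapp]; exact hW u hu v hv, hmap⟩

end Cfsg.Agent.S5962
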