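import Cfsg.Statements.S5964
import Mathlib
import Cfsg.Agent.Lib_helper29_SF2
import Cfsg.Agent.Lib_helper29_SF3
import Cfsg.Agent.Lib_helper29_SF4
-- import your own Cfsg.Agent.* helpers here

set_option autoImplicit false
open scoped MatrixGroups
open Cfsg

namespace Cfsg.Agent.S5964

/-- Involutions of PSL_n(q) and subfield subgroups. Here `T = PSL_n(F)` for a field `F` with `q = p^f` elements (`n ≥ 2`, `(n, q) ≠ (2, 2), (2, 3)`), `F₀` is the subfield with `q₀` elements where `q = q₀^k` for a prime `k`, and `H` is the subgroup of matrices of determinant 1 lying in the subfield group of `F₀` (invertible matrices over `F₀` times scalars) — a maximal subgroup of type GL_n(q₀) (the case `n = 2`, `q₀ = 2` is excluded); Ω is the set of `T`-conjugates of `H` (cosets of `H`), so an element of `T` of prime order `r` (a matrix `x` of determinant 1 with `x^r` scalar, `x` not scalar) fixes a point of Ω when some conjugate of `x` by a matrix of determinant 1 lies in `H`. Suppose the index of `H` is even. Then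 every involution of `T` is conjugate in `T` into `H` if and only if either `q` is even, or `k = 2` and `(n)_2 ≤ (q − 1)_2`. (For `q` odd and `k` odd the index of `H` is odd, so that case does not arise.) -/
theorem result {F : Type*} [Field F] [Fintype F] {p : ℕ} [Fact p.Prime] [CharP F p] {q : ℕ} (hq : Fintype.card F = q)
    (n : ℕ) (hn : 2 ≤ n) (hT : (n, q) ≠ (2, 2) ∧ (n, q) ≠ (2, 3))
    (F₀ : Subfield F) (k q₀ : ℕ) (hk : k.Prime) (hF₀ : Nat.card ↥F₀ = q₀) (hqk : q = q₀ ^ k) (hC5 : ¬ (n = 2 ∧ q₀ = 2)) (hΩ : 2 ∣ ((Cfsg.Geo.subfieldSubgroup F₀ 1).comap (Matrix.SpecialLinearGroup.toGL : Matrix.SpecialLinearGroup (Fin n) F →* GL (Fin n) F)).index) :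
    (∀ x : Matrix.SpecialLinearGroup (Fin n) F,
      (∃ z : F, ((x ^ 2 : Matrix.SpecialLinearGroup (Fin n) F) : Matrix (Fin n) (Fin n) F) = z • (1 : Matrix (Fin n) (Fin n) F)) →
      (∀ z : F, (x : Matrix (Fin n) (Fin n) F) ≠ z • (1 : Matrix (Fin n) (Fin n) F)) →
      ∃ P : Matrix.SpecialLinearGroup (Fin n) F, P⁻¹ * x * P ∈ ((Cfsg.Geo.subfieldSubgroup F₀ 1).comap (Matrix.SpecialLinearGroup.toGL : Matrix.SpecialLinearGroup (Fin n) F →* GL (Fin n) F))) ↔
    (Odd q → (k = 2 ∧ padicValNat 2 n ≤ padicValNat 2 (q - 1))) := by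
  classical
  have hn1 : 1 ≤ n := by omega
  constructor
  · intro hall hqodd
    have h20 : (2 : F) ≠ 0 := by
      intro h2
      haveI : CharP F 2 := CharTwo.of_one_ne_zero_of_two_eq_zero one_ne_zero h2
      obtain ⟨j, -, hj⟩ := FiniteField.card F 2
      rw [hq] at hj
      have : Even q := by
        rw [hj]
        exact (Nat.even_pow.mpr ⟨even_two, j.ne_zero⟩)
      exact (Nat.not_even_iff_odd.mpr hqodd) this
    have hq₀odd : Odd q₀ := by
      rw [hqk] at hqodd
      exact (Nat.odd_pow_iff hk.ne_zero).mp hqodd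
    have hk2 : k = 2 := by
      by_contra hk2
      have hkodd : Odd k := hk.odd_of_ne_two hk2
      have := Cfsg.Agent.helper29.SF.index_odd_of_odd_degree (n := n) F₀ hq hF₀ hqk hkodd
        hq₀odd hn1
      exact (Nat.not_even_iff_odd.mpr this) (even_iff_two_dvd.mpr hΩ)
    refine ⟨hk2, ?_⟩
    by_contra hlt
    rw [not_le] at hlt
    rw [hk2] at hqk
    have hsq : ∀ t : F₀, IsSquare (t : F) := fun t =>
      Cfsg.Agent.helper29.SF.isSquare_of_mem_subfield h20 F₀ hq hF₀ hqk t
    have hm1 : IsSquare (-1 : F) := by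
      have := hsq (-1)
      simpa using this
    have hneven : 2 ∣ n := by
      by_contra h
      rw [padicValNat.eq_zero_of_not_dvd h] at hlt
      omega
    obtain ⟨m, hm⟩ := hneven
    have hnm : n = m + m := by omega
    have hlt' : padicValNat 2 (q - 1) < padicValNat 2 (m + m) := by
      rw [← hnm]
      exact hlt
    obtain ⟨z, hz, hdet⟩ := Cfsg.Agent.helper29.SF.exists_nonsplit_param h20 hq hm1 m hlt'
    obtain ⟨x, hx1, hx2, hx3⟩ :=
      Cfsg.Agent.helper29.SF.sf_bad_element h20 F₀ hsq z hz m hnm hn1 hdet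
    exact hx3 (hall x hx1 hx2)
  · intro hR x hx hns
    obtain ⟨z, hz⟩ := hx
    have hx2 : (x : Matrix (Fin n) (Fin n) F) * (x : Matrix (Fin n) (Fin n) F) =
        z • (1 : Matrix (Fin n) (Fin n) F) := by
      rw [← hz, pow_two, Matrix.SpecialLinearGroup.coe_mul]
    have hz0 : z ≠ 0 := by
      rintro rfl
      rw [zero_smul] at hx2
      have h1 := congrArg Matrix.det hx2
      haveI : Nonempty (Fin n) := ⟨⟨0, by omega⟩⟩
      rw [Matrix.det_mul, x.2, mul_one, Matrix.det_zero] at h1
      exact one_ne_zero h1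
    by_cases h2 : (2 : F) = 0
    · haveI : CharP F 2 := CharTwo.of_one_ne_zero_of_two_eq_zero one_ne_zero h2
      exact Cfsg.Agent.helper29.SF.sf_case_char_two F₀ x z hx2 hz0 hns
    · by_cases hsq : ∃ γ : F, γ * γ = z
      · obtain ⟨γ, hγ⟩ := hsq
        have hγ0 : γ ≠ 0 := by
          rintro rfl
          apply hz0
          rw [← hγ, mul_zero]
        rw [← hγ] at hx2
        exact Cfsg.Agent.helper29.SF.sf_case_split h2 F₀ x γ hγ0 hx2 hn1
      · push Not at hsq
        exfalso
        have hqodd : Odd q := by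
          rw [← hq]
          exact Nat.odd_iff.mpr (FiniteField.odd_card_of_char_ne_two
            (Cfsg.Agent.helper29.SF.ringChar_ne_two h2))
        obtain ⟨hk2, hle⟩ := hR hqodd
        rw [hk2] at hqk
        have hsqF₀ : ∀ t : F₀, IsSquare (t : F) := fun t =>
          Cfsg.Agent.helper29.SF.isSquare_of_mem_subfield h2 F₀ hq hF₀ hqk t
        have hm1 : IsSquare (-1 : F) := by
          have := hsqF₀ (-1)
          simpa using this
        obtain ⟨m, hnm, hdet⟩ := Cfsg.Agent.helper29.SF.det_of_nonsplit h2 x z hsq hx2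
        have hm0 : m ≠ 0 := by omega
        have hle' : padicValNat 2 (m + m) ≤ padicValNat 2 (q - 1) := by
          rw [← hnm]
          exact hle
        exact Cfsg.Agent.helper29.SF.nonsplit_arith h2 hq hm1 z hsq m hdet hm0 hle'

end Cfsg.Agent.S5964
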