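import Cfsg.Statements.S5967
import Mathlib
import Cfsg.Agent.Lib_helper29_PS5
-- import your own Cfsg.Agent.* helpers here

set_option autoImplicit false
open scoped MatrixGroups
open Cfsg

namespace Cfsg.Agent.S5967

/-- Involutions of PSL_n(q) and the symplectic-type subgroups. Here `T = PSL_n(F)` for a field `F` with `q` elements, `n ≥ 4` even, `f` is a nondegenerate alternating form on `F^n`, and `H` is the subgroup of matrices of determinant 1 preserving `f` up to a scalar — a maximal subgroup of type Sp_n(q); Ω is the set of `T`-conjugates of `H` (cosets of `H`), so an element of `T` of prime order `r` (a matrix `x` of determinant 1 with `x^r` scalar, `x` not scalar) fixes a point of Ω when some conjugate of `x` by a matrix of determinant 1 preserves `f` up to a scalar. Suppose the index of `H` is even. Then every involution of `T` is conjugate in `T` into `H` if and only if `(q − 1)_2 ≤ (n)_2`. -/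
theorem result {F : Type*} [Field F] [Fintype F] {p : ℕ} [Fact p.Prime] [CharP F p] {q : ℕ} (hq : Fintype.card F = q)
    (n : ℕ) (hn : 4 ≤ n) (he : Even n) (f : (Fin n → F) → (Fin n → F) → F) (hf : Cfsg.Geo.IsSymplecticForm f)
    (hΩ : 2 ∣ ((Cfsg.Geo.similarityGroup f).comap (Matrix.SpecialLinearGroup.toGL : Matrix.SpecialLinearGroup (Fin n) F →* GL (Fin n) F)).index) :
    (∀ x : Matrix.SpecialLinearGroup (Fin n) F,
      (∃ z : F, ((x ^ 2 : Matrix.SpecialLinearGroup (Fin n) F) : Matrix (Fin n) (Fin n) F) = z • (1 : Matrix (Fin n) (Fin n) F)) →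
      (∀ z : F, (x : Matrix (Fin n) (Fin n) F) ≠ z • (1 : Matrix (Fin n) (Fin n) F)) →
      ∃ P : Matrix.SpecialLinearGroup (Fin n) F, P⁻¹ * x * P ∈ ((Cfsg.Geo.similarityGroup f).comap (Matrix.SpecialLinearGroup.toGL : Matrix.SpecialLinearGroup (Fin n) F →* GL (Fin n) F))) ↔
    padicValNat 2 (q - 1) ≤ padicValNat 2 n := by
  classical
  constructor
  · intro hall
    by_contra hlt
    rw [not_le] at hlt
    obtain ⟨h20, c, hc⟩ := Cfsg.Agent.helper29.PS.exists_pow_eq_neg_one hq (by omega) hlt
    obtain ⟨x, hx1, hx2, hx3⟩ :=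
      Cfsg.Agent.helper29.PS.bad_element h20 (by omega) he f hf c hc
    exact hx3 (hall x hx1 hx2)
  · intro hle x hx hns
    obtain ⟨z, hz⟩ := hx
    have hx2 : (x : Matrix (Fin n) (Fin n) F) * (x : Matrix (Fin n) (Fin n) F) =
        z • (1 : Matrix (Fin n) (Fin n) F) := by
      rw [← hz, pow_two, Matrix.SpecialLinearGroup.coe_mul]
    have hz0 : z ≠ 0 := by
      rintro rfl
      rw [zero_smul] at hx2
      have h1 := congrArg Matrix.det hx2
      haveI : Nonempty (Fin n) := ⟨⟨0, by omega⟩⟩
      rw [Matrix.det_mul, x.2, mul_one, Matrix.det_zero] at h1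
      exact one_ne_zero h1
    by_cases h2 : (2 : F) = 0
    · haveI : CharP F 2 := CharTwo.of_one_ne_zero_of_two_eq_zero one_ne_zero h2
      exact Cfsg.Agent.helper29.PS.case_char_two f hf x z hx2 hz0 hns
    · by_cases hsq : ∃ γ : F, γ * γ = z
      · obtain ⟨γ, hγ⟩ := hsq
        have hγ0 : γ ≠ 0 := by
          rintro rfl
          apply hz0
          rw [← hγ, mul_zero]
        rw [← hγ] at hx2
        exact Cfsg.Agent.helper29.PS.case_split h2 f hf x γ hγ0 hx2 (by omega) he
          (Cfsg.Agent.helper29.PS.pow_ne_neg_one hq h2 (by omega) hle)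
      · push Not at hsq
        exact Cfsg.Agent.helper29.PS.case_nonsplit f hf x z hsq hx2 (by omega)

end Cfsg.Agent.S5967
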