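import Cfsg.Statements.S5968
import Mathlib
import Cfsg.Agent.Lib_helper29_SD2
import Cfsg.Agent.Lib_helper29_SD5
-- import your own Cfsg.Agent.* helpers here

set_option autoImplicit false
open scoped MatrixGroups
open Cfsg

namespace Cfsg.Agent.S5968

/-- Derangements of odd prime order of PSL_n(q) on the cosets of a symplectic-type subgroup. Here `T = PSL_n(F)` for a field `F` with `q` elements, `n ≥ 4` even, `f` is a nondegenerate alternating form on `F^n`, and `H` is the subgroup of matrices of determinant 1 preserving `f` up to a scalar — a maximal subgroup of type Sp_n(q); Ω is the set of `T`-conjugates of `H` (cosets of `H`), so an element of `T` of prime order `r` (a matrix `x` of determinant 1 with `x^r` scalar, `x` not scalar) fixes a point of Ω when some conjugate of `x` by a matrix of determinant 1 preserves `f` up to a scalar. For every odd prime `r` dividing the index of `H`, with `(n, r) ≠ (6, 3)`, there is an element of `T` of order `r` with no conjugate in `H`. (For `n = 6`, `r = 3` this can fail: when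 `(q − 1)_3 = 3` every element of order 3 is conjugate into `H`.) -/
theorem result {F : Type*} [Field F] [Fintype F] {p : ℕ} [Fact p.Prime] [CharP F p] {q : ℕ} (hq : Fintype.card F = q)
    (n : ℕ) (hn : 4 ≤ n) (he : Even n) (f : (Fin n → F) → (Fin n → F) → F) (hf : Cfsg.Geo.IsSymplecticForm f)
    (r : ℕ) [Fact r.Prime] (hr2 : r ≠ 2) (hgap : ¬ (n = 6 ∧ r = 3)) (hΩ : r ∣ ((Cfsg.Geo.similarityGroup f).comap (Matrix.SpecialLinearGroup.toGL : Matrix.SpecialLinearGroup (Fin n) F →* GL (Fin n) F)).index) :
    ∃ x : Matrix.SpecialLinearGroup (Fin n) F,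
      (∃ z : F, ((x ^ r : Matrix.SpecialLinearGroup (Fin n) F) : Matrix (Fin n) (Fin n) F) = z • (1 : Matrix (Fin n) (Fin n) F)) ∧
      (∀ z : F, (x : Matrix (Fin n) (Fin n) F) ≠ z • (1 : Matrix (Fin n) (Fin n) F)) ∧
      ∀ P : Matrix.SpecialLinearGroup (Fin n) F, P⁻¹ * x * P ∉ ((Cfsg.Geo.similarityGroup f).comap (Matrix.SpecialLinearGroup.toGL : Matrix.SpecialLinearGroup (Fin n) F →* GL (Fin n) F)) := by
  classical
  have hr : r.Prime := Fact.out
  have hp : p.Prime := Fact.out
  have hn1 : 1 ≤ n := by omega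
  suffices h : ∃ x : Matrix.SpecialLinearGroup (Fin n) F,
      ((x ^ r : Matrix.SpecialLinearGroup (Fin n) F) : Matrix (Fin n) (Fin n) F) = 1 ∧
      (∀ z : F, (x : Matrix (Fin n) (Fin n) F) ≠ z • (1 : Matrix (Fin n) (Fin n) F)) ∧
      ∀ f' : (Fin n → F) → (Fin n → F) → F, Cfsg.Geo.IsSymplecticForm f' → ∀ μ : F, μ ≠ 0 →
        ¬ ∀ u v, f' (Matrix.mulVec (x : Matrix (Fin n) (Fin n) F) u)
          (Matrix.mulVec (x : Matrix (Fin n) (Fin n) F) v) = μ * f' u v by
    obtain ⟨x, h1, h2, h3⟩ := h
    exact ⟨x, ⟨1, by rw [h1, one_smul]⟩, h2, Cfsg.Agent.helper29.SD.transfer f hf x h3⟩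
  by_cases hrp : r = p
  · subst hrp
    exact Cfsg.Agent.helper29.SD.case_unip hr2 (by omega)
  · obtain ⟨k, hpk, hcard⟩ := FiniteField.card F p
    have hrq : ¬ r ∣ q := by
      rw [← hq, hcard]
      intro h
      have := hr.dvd_of_dvd_pow h
      exact hrp ((Nat.prime_dvd_prime_iff_eq hr hp).mp this)
    by_cases h1 : r ∣ q - 1
    · have hcu : Nat.card Fˣ = q - 1 := by
        rw [Nat.card_units, Nat.card_eq_fintype_card, hq]
      rw [← hcu] at h1
      obtain ⟨lam, hlam⟩ := exists_prime_orderOf_dvd_card' r h1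
      exact Cfsg.Agent.helper29.SD.case_diag hn he (lam : F) r hr hr2
        (by rw [orderOf_units]; exact hlam) hgap
    · obtain ⟨j, hjodd, hjn, hjr⟩ :=
        Cfsg.Agent.helper29.SD.odd_exp_of_dvd_index hq hn1 f hf r hr hrq hΩ
      haveI : NeZero j := ⟨by rcases hjodd with ⟨t, ht⟩; omega⟩
      have hfr : Module.finrank F (FiniteField.Extension F p j) = j :=
        FiniteField.finrank_extension F p j
      have hcK : Nat.card (FiniteField.Extension F p j)ˣ = q ^ j - 1 := by
        rw [Nat.card_units, FiniteField.natCard_extension, Nat.card_eq_fintype_card, hq]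
      rw [← hcK] at hjr
      obtain ⟨lam, hlam⟩ := exists_prime_orderOf_dvd_card' r hjr
      have hlam1 : (lam : FiniteField.Extension F p j) ≠ 1 := by
        intro h
        have h2 : lam = 1 := Units.ext h
        rw [h2, orderOf_one] at hlam
        exact hr.one_lt.ne hlam
      have hlamr : (lam : FiniteField.Extension F p j) ^ r = 1 := by
        rw [← Units.val_pow_eq_pow_val, ← hlam, pow_orderOf_eq_one, Units.val_one]
      have hroot : ∀ μ : F, μ ^ r = 1 → μ = 1 := by
        intro μ hμ
        have hμ0 : μ ≠ 0 := by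
          rintro rfl
          rw [zero_pow hr.ne_zero] at hμ
          exact zero_ne_one hμ
        have h2 : μ ^ (q - 1) = 1 := by
          rw [← hq]
          exact FiniteField.pow_card_sub_one_eq_one μ hμ0
        have hcop : Nat.Coprime r (q - 1) := (Nat.Prime.coprime_iff_not_dvd hr).mpr h1
        exact (pow_eq_one_iff_of_coprime hcop).mp ⟨hμ, h2⟩
      exact Cfsg.Agent.helper29.SD.case_block (K := FiniteField.Extension F p j) (n - j)
        (by omega) (by rw [hfr]; omega) (by rw [hfr]; exact hjodd) (lam : _) r hlamr hlam1 hroot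

end Cfsg.Agent.S5968
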