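import Cfsg.Statements.S5969
import Mathlib
import Cfsg.Agent.Lib_helper29_EF2
import Cfsg.Agent.Lib_helper29_EF4
import Cfsg.Agent.Lib_helper29_EF5
import Cfsg.Agent.Lib_helper29_PS5
-- import your own Cfsg.Agent.* helpers here

set_option autoImplicit false
open scoped MatrixGroups
open Cfsg

namespace Cfsg.Agent.S5969

/-- Involutions of PSL_n(q) and extension-field subgroups of degree 2. Here `T = PSL_n(F)` for a field `F` with `q = p^f` elements (`n ≥ 2`, `(n, q) ≠ (2, 2), (2, 3)`), `k` is a prime dividing `n`, `K` is a subalgebra of the `n × n` matrices that is a field of degree `k` over `F` (an extension-field structure F_{q^k} on `F^n`), and `H` is the subgroup of matrices of determinant 1 normalizing `K` — a subgroup of type GL_{n/k}(q^k) (maximal except in some small cases; maximality is not assumed); Ω is the set of cosets of `H` in `T`, so an element of `T` of prime order `r` (a matrix `x` of determinant 1 with `x^r` scalar, `x` not scalar) fixes a point of Ω when some conjugate of `x` by a matrix of determinant 1 normalizes `K`. Take `k = 2` and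 suppose the index of `H` is even. Then every involution of `T` is conjugate in `T` into `H` if and only if `n = 2`, or `q` is odd and `(q − 1)_2 ≤ (n)_2`. -/
theorem result {F : Type*} [Field F] [Fintype F] {p : ℕ} [Fact p.Prime] [CharP F p] {q : ℕ} (hq : Fintype.card F = q)
    (n : ℕ) (hn : 2 ≤ n) (hT : (n, q) ≠ (2, 2) ∧ (n, q) ≠ (2, 3))
    (k : ℕ) (hk : k.Prime) (hkn : k ∣ n) (K : Subalgebra F (Matrix (Fin n) (Fin n) F)) (hK : Cfsg.Geo.IsFieldSubalgebra k K) (hk2 : k = 2) (hΩ : 2 ∣ ((Cfsg.Geo.subalgebraNormalizer K).comap (Matrix.SpecialLinearGroup.toGL : Matrix.SpecialLinearGroup (Fin n) F →* GL (Fin n) F)).index) :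
    (∀ x : Matrix.SpecialLinearGroup (Fin n) F,
      (∃ z : F, ((x ^ 2 : Matrix.SpecialLinearGroup (Fin n) F) : Matrix (Fin n) (Fin n) F) = z • (1 : Matrix (Fin n) (Fin n) F)) →
      (∀ z : F, (x : Matrix (Fin n) (Fin n) F) ≠ z • (1 : Matrix (Fin n) (Fin n) F)) →
      ∃ P : Matrix.SpecialLinearGroup (Fin n) F, P⁻¹ * x * P ∈ ((Cfsg.Geo.subalgebraNormalizer K).comap (Matrix.SpecialLinearGroup.toGL : Matrix.SpecialLinearGroup (Fin n) F →* GL (Fin n) F))) ↔
    (n = 2 ∨ (Odd q ∧ padicValNat 2 (q - 1) ≤ padicValNat 2 n)) := by
  classical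
  subst hk2
  have hn1 : 1 ≤ n := by omega
  have hneven : Even n := even_iff_two_dvd.mpr hkn
  constructor
  · intro hall
    by_cases hn2 : n = 2
    · exact Or.inl hn2
    · right
      have hn4 : 4 ≤ n := by
        obtain ⟨j, hj⟩ := hneven
        omega
      have h20 : (2 : F) ≠ 0 := by
        intro h2
        obtain ⟨x, hx1, hx2, hx3⟩ := Cfsg.Agent.helper29.EF.ef_bad_even K hK h2 (by omega)
        exact hx3 (hall x hx1 hx2)
      have hqodd : Odd q := by
        rw [← hq]
        exact Nat.odd_iff.mpr (FiniteField.odd_card_of_char_ne_two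
          (Cfsg.Agent.helper29.SF.ringChar_ne_two h20))
      refine ⟨hqodd, ?_⟩
      by_contra hlt
      rw [not_le] at hlt
      obtain ⟨-, c, hc⟩ := Cfsg.Agent.helper29.PS.exists_pow_eq_neg_one hq (by omega) hlt
      obtain ⟨x, hx1, hx2, hx3⟩ :=
        Cfsg.Agent.helper29.EF.ef_bad_odd K hK h20 (by omega) hneven c hc
      exact hx3 (hall x hx1 hx2)
  · intro hR x hx hns
    obtain ⟨z, hz⟩ := hx
    have hx2 : (x : Matrix (Fin n) (Fin n) F) * (x : Matrix (Fin n) (Fin n) F) =
        z • (1 : Matrix (Fin n) (Fin n) F) := by
      rw [← hz, pow_two, Matrix.SpecialLinearGroup.coe_mul]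
    have hz0 : z ≠ 0 := by
      rintro rfl
      rw [zero_smul] at hx2
      have h1 := congrArg Matrix.det hx2
      haveI : Nonempty (Fin n) := ⟨⟨0, by omega⟩⟩
      rw [Matrix.det_mul, x.2, mul_one, Matrix.det_zero] at h1
      exact one_ne_zero h1
    by_cases h2 : (2 : F) = 0
    · haveI : CharP F 2 := CharTwo.of_one_ne_zero_of_two_eq_zero one_ne_zero h2
      have hn2 : n = 2 := by
        rcases hR with h | ⟨hodd, -⟩
        · exact h
        · exfalso
          obtain ⟨j, -, hj⟩ := FiniteField.card F 2
          rw [hq] at hj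
          have : Even q := by
            rw [hj]
            exact (Nat.even_pow.mpr ⟨even_two, j.ne_zero⟩)
          exact (Nat.not_even_iff_odd.mpr hodd) this
      subst hn2
      exact Cfsg.Agent.helper29.EF.ef_case_char_two_dim_two K hK x z hx2 hz0 hns
    · by_cases hsq : ∃ γ : F, γ * γ = z
      · obtain ⟨γ, hγ⟩ := hsq
        have hγ0 : γ ≠ 0 := by
          rintro rfl
          apply hz0
          rw [← hγ, mul_zero]
        rw [← hγ] at hx2
        have hxx : ∀ v, Matrix.toLin' (x : Matrix (Fin n) (Fin n) F)
            (Matrix.toLin' (x : Matrix (Fin n) (Fin n) F) v) = (γ * γ) • v := by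
          intro v
          rw [Matrix.toLin'_apply, Matrix.toLin'_apply, Matrix.mulVec_mulVec, hx2,
            Matrix.smul_mulVec, Matrix.one_mulVec]
        obtain ⟨a, bb, B₀, hl, hr⟩ := Cfsg.Agent.helper29.SF.exists_eigenbasis h2
          (Matrix.toLin' (x : Matrix (Fin n) (Fin n) F)) γ hγ0 hxx
        have hab : a + bb = n := by
          have := Module.finrank_eq_card_basis B₀
          rw [Module.finrank_fin_fun, Fintype.card_sum, Fintype.card_fin, Fintype.card_fin]
            at this
          exact this.symm
        have hdet := Cfsg.Agent.helper29.EF.split_det x γ B₀ hl hr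
        rcases hR with hn2 | ⟨hodd, hle⟩
        · have ha1 : a ≠ 0 := by
            intro ha0
            subst ha0
            apply hns (-γ)
            apply Cfsg.Agent.helper29.EF.scalar_of_basis x (-γ) B₀
            rintro (i | i)
            · exact i.elim0
            · exact hr i
          have hb1 : bb ≠ 0 := by
            intro hb0
            subst hb0
            apply hns γ
            apply Cfsg.Agent.helper29.EF.scalar_of_basis x γ B₀
            rintro (i | i)
            · exact hl i
            · exact i.elim0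
          have hab1 : a = 1 ∧ bb = 1 := by omega
          obtain ⟨rfl, rfl⟩ := hab1
          exact Cfsg.Agent.helper29.EF.ef_case_split_half h2 K hK x γ B₀ hl hr hn1
        · have hbeven : Even bb := by
            by_contra hodd'
            rw [Nat.not_even_iff_odd] at hodd'
            rw [hodd'.neg_pow, mul_neg, ← pow_add, hab] at hdet
            apply Cfsg.Agent.helper29.PS.pow_ne_neg_one hq h2 (by omega) hle γ
            rw [← hdet, neg_neg]
          have haeven : Even a := by
            rw [← hab] at hneven
            exact (Nat.even_add.mp hneven).mpr hbeven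
          obtain ⟨a', ha'⟩ := haeven
          obtain ⟨b', hb'⟩ := hbeven
          exact Cfsg.Agent.helper29.EF.ef_case_split_even h2 K hK x γ B₀ hl hr (a' := a')
            (b' := b') (by omega) (by omega) hn1
      · push Not at hsq
        exact Cfsg.Agent.helper29.EF.ef_case_nonsplit h2 K hK x z hsq hx2 hn1

end Cfsg.Agent.S5969
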