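import Cfsg.Statements.S5971
import Mathlib
import Cfsg.Agent.Lib_helper29_SG8
-- import your own Cfsg.Agent.* helpers here

set_option autoImplicit false
open scoped MatrixGroups
open Cfsg

namespace Cfsg.Agent.S5971

/-- Elements of order 3 of PSL_3(q) and the normalizer of a Singer cycle. Here `T = PSL_n(F)` for a field `F` with `q = p^f` elements (`n ≥ 2`, `(n, q) ≠ (2, 2), (2, 3)`), `k` is a prime dividing `n`, `K` is a subalgebra of the `n × n` matrices that is a field of degree `k` over `F` (an extension-field structure F_{q^k} on `F^n`), and `H` is the subgroup of matrices of determinant 1 normalizing `K` — a subgroup of type GL_{n/k}(q^k) (maximal except in some small cases; maximality is not assumed); Ω is the set of cosets of `H` in `T`, so an element of `T` of prime order `r` (a matrix `x` of determinant 1 with `x^r` scalar, `x` not scalar) fixes a point of Ω when some conjugate of `x` by a matrix of determinant 1 normalizes `K`. Take `n = k = 3` and suppose 3 divides the index of `H`. Then every element of `T` of order 3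 is conjugate in `T` into `H` if and only if `q ≡ 4, 7` or `8 (mod 9)`. -/
theorem result {F : Type*} [Field F] [Fintype F] {p : ℕ} [Fact p.Prime] [CharP F p] {q : ℕ} (hq : Fintype.card F = q)
    (n : ℕ) (hn : n = 3) (k : ℕ) (hk : k.Prime) (hkn : k ∣ n) (K : Subalgebra F (Matrix (Fin n) (Fin n) F)) (hK : Cfsg.Geo.IsFieldSubalgebra k K) (hk3 : k = 3) (hΩ : 3 ∣ ((Cfsg.Geo.subalgebraNormalizer K).comap (Matrix.SpecialLinearGroup.toGL : Matrix.SpecialLinearGroup (Fin n) F →* GL (Fin n) F)).index) :
    (∀ x : Matrix.SpecialLinearGroup (Fin n) F,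
      (∃ z : F, ((x ^ 3 : Matrix.SpecialLinearGroup (Fin n) F) : Matrix (Fin n) (Fin n) F) = z • (1 : Matrix (Fin n) (Fin n) F)) →
      (∀ z : F, (x : Matrix (Fin n) (Fin n) F) ≠ z • (1 : Matrix (Fin n) (Fin n) F)) →
      ∃ P : Matrix.SpecialLinearGroup (Fin n) F, P⁻¹ * x * P ∈ ((Cfsg.Geo.subalgebraNormalizer K).comap (Matrix.SpecialLinearGroup.toGL : Matrix.SpecialLinearGroup (Fin n) F →* GL (Fin n) F))) ↔
    (q % 9 = 4 ∨ q % 9 = 7 ∨ q % 9 = 8) := by
  classical
  subst hn
  subst hk3
  have hp : p.Prime := Fact.out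
  have hq1 : 1 < q := by
    rw [← hq]
    exact Fintype.one_lt_card
  by_cases hp3 : p = 3
  · subst hp3
    have h3q : 3 ∣ q := by
      rw [← CharP.cast_eq_zero_iff F 3 q, ← hq]
      exact Nat.cast_card_eq_zero F
    constructor
    · intro h
      exfalso
      obtain ⟨x, hx3, hns, μ, v, w, hv, hw, hv0, hind⟩ := Cfsg.Agent.helper29.SG.bad_char3 (F := F)
      exact Cfsg.Agent.helper29.SG.bad_of_eigen Nat.prime_three K hK x hns μ v w hv hw hv0 hind
        (h x ⟨1, by rw [hx3, one_smul]⟩ hns)
    · intro h
      exfalso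
      omega
  · have h3q : ¬ 3 ∣ q := by
      obtain ⟨f, -, hf⟩ := FiniteField.card F p
      rw [hq] at hf
      intro h
      rw [hf] at h
      have h1 := Nat.Prime.dvd_of_dvd_pow Nat.prime_three h
      exact hp3 ((Nat.prime_dvd_prime_iff_eq Nat.prime_three hp).mp h1).symm
    have hgood : ¬ 9 ∣ q - 1 → ∀ x : Matrix.SpecialLinearGroup (Fin 3) F,
        (∃ z : F, ((x ^ 3 : Matrix.SpecialLinearGroup (Fin 3) F) : Matrix (Fin 3) (Fin 3) F) =
          z • (1 : Matrix (Fin 3) (Fin 3) F)) →
        (∀ z : F, (x : Matrix (Fin 3) (Fin 3) F) ≠ z • (1 : Matrix (Fin 3) (Fin 3) F)) →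
        ∃ P : Matrix.SpecialLinearGroup (Fin 3) F, P⁻¹ * x * P ∈
          ((Cfsg.Geo.subalgebraNormalizer K).comap
            (Matrix.SpecialLinearGroup.toGL :
              Matrix.SpecialLinearGroup (Fin 3) F →* GL (Fin 3) F)) := by
      intro h9 x hxz hns
      obtain ⟨z, hz⟩ := hxz
      have hz1 := Cfsg.Agent.helper29.SG.cube_scalar_eq_one hq h9
        (x : Matrix (Fin 3) (Fin 3) F) x.2 z (by
          rw [← Matrix.SpecialLinearGroup.coe_pow]
          exact hz)
      rw [hz1, one_smul] at hz
      exact Cfsg.Agent.helper29.SG.singer3_conj hp3 K hK x hz hns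
    by_cases h31 : 3 ∣ q - 1
    · by_cases h9 : 9 ∣ q - 1
      · constructor
        · intro h
          exfalso
          obtain ⟨x, hx3, hns, μ, v, w, hv, hw, hv0, hind⟩ :=
            Cfsg.Agent.helper29.SG.bad_nine hq h9
          exact Cfsg.Agent.helper29.SG.bad_of_eigen Nat.prime_three K hK x hns μ v w hv hw hv0
            hind (h x hx3 hns)
        · intro h
          exfalso
          omega
      · constructor
        · intro _
          omega
        · intro _
          exact hgood h9
    · have h9 : ¬ 9 ∣ q - 1 := by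
        intro h
        apply h31
        omega
      have hq9 : q % 9 = 8 := by
        by_contra hne
        have h25 : q % 9 = 2 ∨ q % 9 = 5 := by omega
        obtain ⟨gS, hgH, hgo⟩ := Cfsg.Agent.helper29.SG.singer3_order_three K hK
        exact Cfsg.Agent.helper29.SG.not_nine_dvd q (by omega) h25
          (Cfsg.Agent.helper29.SG.nine_dvd_prod hq _ hΩ gS hgH hgo)
      constructor
      · intro _
        right
        right
        exact hq9
      · intro _
        exact hgood h9

end Cfsg.Agent.S5971
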