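import Cfsg.Statements.S5983
import Mathlib
import Cfsg.Agent.Lib_helper29_NS17
-- import your own Cfsg.Agent.* helpers here

set_option autoImplicit false
open scoped MatrixGroups
open Cfsg

namespace Cfsg.Agent.S5983

theorem exists_irr {F : Type*} [Field F] [Fintype F] [CharP F 2] :
    ∃ c : F, ∀ t : F, t ^ 2 + t + c ≠ 0 := by
  have h2 : (2 : F) = 0 := CharTwo.two_eq_zero
  by_contra hcon
  push Not at hcon
  have htop : (Cfsg.Agent.helper29.NS.wp F).range = ⊤ := by
    rw [eq_top_iff]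
    intro c _
    obtain ⟨t, ht⟩ := hcon c
    exact ⟨t, by rw [Cfsg.Agent.helper29.NS.wp_apply]; linear_combination ht - c * h2⟩
  have h := Cfsg.Agent.helper29.NS.wp_index (F := F)
  rw [htop, AddSubgroup.index_top] at h
  exact absurd h (by norm_num)

/-- Elements of prime order of PSp_n(q), q even, and the subgroups of orthogonal type. Here `T = Sp_{2d}(F)` for a field `F` of characteristic 2 with `q` elements (`d ≥ 2`, `(d, q) ≠ (2, 2)`), realised as the invertible matrices preserving the standard alternating form; `Q` is a non-degenerate quadratic form on `F^{2d}` whose polar form is that alternating form, and `H` is the subgroup of `T` preserving `Q` up to a scalar (equivalently preserving `Q`) — a subgroup of type O^±_{2d}(q) (maximality is not assumed); `Q` is of plus type when `F^{2d}` contains a `d`-dimensional subspace on which `Q` vanishes, of minus type otherwise. Ω is the set of cosets of `H` in `T`, so an element of `T` of prime order `r`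 (`x ∈ T` with `x^r` scalar, `x` not scalar) fixes a point of Ω exactly when some `T`-conjugate of `x` preserves `Q`. Let `r` be a prime dividing the index of `H`. Then every element of `T` of order `r` fixes a point of Ω if and only if `r = 2` and either `Q` is of plus type or `d` is odd. -/
theorem result {F : Type*} [Field F] [Fintype F] {p : ℕ} [Fact p.Prime] [CharP F p] {q : ℕ} (hq : Fintype.card F = q)
    (hp : p = 2) (d : ℕ) (hd : 2 ≤ d) (hT : (d, q) ≠ (2, 2)) (Q : (Fin d ⊕ Fin d → F) → F) (hQ : Cfsg.Geo.IsNondegenerateQuadraticForm Q)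
    (hQf : ∀ u v, QuadraticMap.polar Q u v = Cfsg.sympForm d F u v)
    (r : ℕ) [Fact r.Prime]
    (hΩ : r ∣ (Cfsg.Geo.quadSimilarityGroup Q).relIndex (Cfsg.spGL d F)) :
    (∀ x ∈ Cfsg.spGL d F, (∃ z : F, ((x ^ r : GL (Fin d ⊕ Fin d) F) : Matrix (Fin d ⊕ Fin d) (Fin d ⊕ Fin d) F) = z • (1 : Matrix (Fin d ⊕ Fin d) (Fin d ⊕ Fin d) F)) →
      (∀ z : F, (x : Matrix (Fin d ⊕ Fin d) (Fin d ⊕ Fin d) F) ≠ z • (1 : Matrix (Fin d ⊕ Fin d) (Fin d ⊕ Fin d) F)) →
      ∃ g ∈ Cfsg.spGL d F, g⁻¹ * x * g ∈ Cfsg.Geo.quadSimilarityGroup Q) ↔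
    (r = 2 ∧ (Cfsg.Geo.IsPlusTypeOn Q ⊤ ∨ Odd d)) := by
  classical
  subst hp
  obtain ⟨k, rfl⟩ : ∃ k, d = k + 1 := ⟨d - 1, by omega⟩
  have hQF : Cfsg.Agent.helper29.OM.IsQF Q := ⟨fun u v => by
    have := hQf u v
    unfold QuadraticMap.polar at this
    linear_combination this, hQ.smul⟩
  have hr : r.Prime := Fact.out
  have hm1 : 1 ≤ k + 1 := by omega
  have hne : Fintype.card F ≠ 2 ∨ k + 1 ≠ 2 := by
    by_contra hcon
    push Not at hcon
    apply hT
    rw [← hq, hcon.1, hcon.2]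
  have hcoe : ∀ a : Matrix.symplecticGroup (Fin (k + 1)) F,
      ((Cfsg.Agent.S5645.toGL a : GL (Fin (k + 1) ⊕ Fin (k + 1)) F) :
        Matrix (Fin (k + 1) ⊕ Fin (k + 1)) (Fin (k + 1) ⊕ Fin (k + 1)) F) =
      (a : Matrix (Fin (k + 1) ⊕ Fin (k + 1)) (Fin (k + 1) ⊕ Fin (k + 1)) F) := fun a => rfl
  have hmemGL : ∀ a : Matrix.symplecticGroup (Fin (k + 1)) F,
      Cfsg.Agent.S5645.toGL a ∈ Cfsg.spGL (k + 1) F := fun a =>
    (Cfsg.Agent.S0270.toGHom a).2
  have hsurj : ∀ x ∈ Cfsg.spGL (k + 1) F, ∃ a : Matrix.symplecticGroup (Fin (k + 1)) F,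
      Cfsg.Agent.S5645.toGL a = x := by
    intro x hx
    obtain ⟨a, ha⟩ := Cfsg.Agent.S0270.toGHom_surj ⟨x, hx⟩
    exact ⟨a, congrArg Subtype.val ha⟩
  constructor
  · intro H
    have H' : ∀ a : Matrix.symplecticGroup (Fin (k + 1)) F, a ^ r = 1 → a ≠ 1 →
        ∃ g : Matrix.symplecticGroup (Fin (k + 1)) F, ∀ v : Fin (k + 1) ⊕ Fin (k + 1) → F,
          Q (Matrix.mulVec (((g⁻¹ * a * g : Matrix.symplecticGroup (Fin (k + 1)) F)) :
            Matrix (Fin (k + 1) ⊕ Fin (k + 1)) (Fin (k + 1) ⊕ Fin (k + 1)) F) v) = Q v := by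
      intro a har ha1
      obtain ⟨g, hg, hmem⟩ := H (Cfsg.Agent.S5645.toGL a) (hmemGL a) ⟨1, by
        rw [← map_pow, har, map_one, one_smul, Units.val_one]⟩ (fun z hz => ha1
          (Cfsg.Agent.helper29.NS.sp_scalar_one hm1 a z (by rw [← hcoe a]; exact hz)))
      obtain ⟨g', rfl⟩ := hsurj g hg
      rw [← map_inv, ← map_mul, ← map_mul] at hmem
      exact ⟨g', (Cfsg.Agent.helper29.NS.mem_comap_simil hQF hm1 _).mp hmem⟩
    have hbv : (Cfsg.Agent.S0765.bv (Sum.inl 0) : Fin (k + 1) ⊕ Fin (k + 1) → F) ≠ 0 := by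
      intro h0
      have := congrFun h0 (Sum.inl 0)
      unfold Cfsg.Agent.S0765.bv at this
      rw [Pi.single_eq_same] at this
      exact one_ne_zero this
    have hnofix1 : ∀ a : Matrix.symplecticGroup (Fin (k + 1)) F,
        (∀ v : Fin (k + 1) ⊕ Fin (k + 1) → F, Matrix.mulVec
          (a : Matrix (Fin (k + 1) ⊕ Fin (k + 1)) (Fin (k + 1) ⊕ Fin (k + 1)) F) v = v → v = 0) →
        a ≠ 1 := by
      rintro a hfix rfl
      exact hbv (hfix _ (by rw [Submonoid.coe_one, Matrix.one_mulVec]))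
    have hr2 : r = 2 := by
      by_contra hr2
      rcases Cfsg.Agent.helper29.NS.qf_classify k hQF with hp | hm
      · have hdvd := Cfsg.Agent.helper29.NS.dvd_of_isPlusQ k hq hQF hp r hr hr2 hΩ
        obtain ⟨c, hc⟩ := exists_irr (F := F)
        obtain ⟨a, har, hfix, hpres⟩ :=
          Cfsg.Agent.helper29.NS.exists_bad_minus hq k c hc hne r hr2 hdvd
        obtain ⟨g, hg⟩ := H' a har (hnofix1 a hfix)
        have := Cfsg.Agent.helper29.NS.qf_transport (Cfsg.Agent.helper29.OM.isQF_Qm k c) hQF a g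
          hpres hfix hg
        exact Cfsg.Agent.helper29.NS.not_plusType_of_isMinusQ k ⟨c, hc, g, this⟩
          (Cfsg.Agent.helper29.NS.plusType_of_isPlusQ k hp)
      · have hdvd := Cfsg.Agent.helper29.NS.dvd_of_isMinusQ k hq hQF hm r hr hr2 hΩ
        obtain ⟨a, har, hfix, hpres⟩ :=
          Cfsg.Agent.helper29.NS.exists_bad_plus hq hm1 r hdvd
        obtain ⟨g, hg⟩ := H' a har (hnofix1 a hfix)
        have := Cfsg.Agent.helper29.NS.qf_transport Cfsg.Agent.helper29.OM.isQF_plus hQF a g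
          hpres hfix hg
        exact Cfsg.Agent.helper29.NS.not_plusType_of_isMinusQ k hm
          (Cfsg.Agent.helper29.NS.plusType_of_isPlusQ k ⟨g, this⟩)
    refine ⟨hr2, ?_⟩
    rcases Cfsg.Agent.helper29.NS.qf_classify k hQF with hp | hm
    · left
      exact Cfsg.Agent.helper29.NS.plusType_of_isPlusQ k hp
    · right
      by_contra hodd
      have heven : Even (k + 1) := Nat.not_odd_iff_even.mp hodd
      obtain ⟨a, ha2, halt, hrk⟩ := Cfsg.Agent.helper29.NS.exists_special_sp (F := F) heven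
      have ha1 : a ≠ 1 := Cfsg.Agent.helper29.SpInv.ne_one_of_rank a (by rw [hrk]; omega)
      obtain ⟨g, hg⟩ := H' a (by rw [hr2, pow_two, ha2]) ha1
      exact Cfsg.Agent.helper29.NS.not_plusType_of_isMinusQ k hm
        (Cfsg.Agent.helper29.NS.plusType_of_special hQF a g halt hrk hg)
  · rintro ⟨hr2, htype⟩ x hx ⟨z, hz⟩ hns
    obtain ⟨a, rfl⟩ := hsurj x hx
    have ha2 : a * a = 1 := by
      apply Cfsg.Agent.helper29.NS.sp_scalar_one hm1 (a * a) z
      rw [← hz, hr2, pow_two, ← map_mul]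
      rfl
    have ha1 : a ≠ 1 := by
      rintro rfl
      apply hns 1
      rw [map_one, one_smul, Units.val_one]
    have hex : ∃ g : Matrix.symplecticGroup (Fin (k + 1)) F,
        ∀ v : Fin (k + 1) ⊕ Fin (k + 1) → F,
          Q (Matrix.mulVec (((g⁻¹ * a * g : Matrix.symplecticGroup (Fin (k + 1)) F)) :
            Matrix (Fin (k + 1) ⊕ Fin (k + 1)) (Fin (k + 1) ⊕ Fin (k + 1)) F) v) = Q v := by
      rcases Cfsg.Agent.helper29.NS.qf_classify k hQF with hp | hm
      · exact Cfsg.Agent.helper29.NS.conj_into_plus k hp a ha2 ha1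
      · rcases htype with hpt | hodd
        · exact absurd hpt (Cfsg.Agent.helper29.NS.not_plusType_of_isMinusQ k hm)
        · exact Cfsg.Agent.helper29.NS.conj_into_minus k hm hodd a ha2 ha1
    obtain ⟨g, hg⟩ := hex
    refine ⟨Cfsg.Agent.S5645.toGL g, hmemGL g, ?_⟩
    rw [← map_inv, ← map_mul, ← map_mul]
    exact (Cfsg.Agent.helper29.NS.mem_comap_simil hQF hm1 _).mpr hg

end Cfsg.Agent.S5983
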