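import Cfsg.Statements.S5985
import Mathlib
import Cfsg.Agent.Lib_helper29_NS4
-- import your own Cfsg.Agent.* helpers here

set_option autoImplicit false
open scoped MatrixGroups
open Cfsg

namespace Cfsg.Agent.S5985

/-- Elements of prime order of Ω⁺_n(q), q even, with no fixed nonsingular 1-space. Here `T = PΩ⁺_n(F)`, `n = 2d ≥ 8`, realised through `Ω⁺_n(q)`, the commutator subgroup of the isometry group of `Q = Σ xᵢyᵢ` over the field `F` with `q` elements; an element of `T` of prime order `r` is an element `x` of `Ω⁺_n(q)` with `x^r` scalar and `x` not scalar; `q` is even (so the centre is trivial). Let Ω be the set of 1-dimensional subspaces spanned by a vector `v` with `Q(v) ≠ 0`, and let `r` be a prime dividing their number. Then every element of `T` of order `r` fixes some nonsingular 1-space if and only if `r = 2` and `n ≡ 2 (mod 4)` (that is, `d` is odd). -/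
theorem result {F : Type*} [Field F] [Fintype F] {p : ℕ} [Fact p.Prime] [CharP F p] {q : ℕ} (hq : Fintype.card F = q)
    (hp : p = 2) (d : ℕ) (hd : 4 ≤ d) (r : ℕ) [Fact r.Prime]
    (hrΩ : r ∣ Nat.card {W : Submodule F (Fin d ⊕ Fin d → F) // Module.finrank F ↥W = 1 ∧ ∃ v ∈ W, Cfsg.quadFormPlus d F v ≠ 0}) :
    (∀ x : GL (Fin d ⊕ Fin d) F, x ∈ Cfsg.Geo.omegaGL (Cfsg.quadFormPlus d F) →
      (∃ z : F, ((x ^ r : GL (Fin d ⊕ Fin d) F) : Matrix (Fin d ⊕ Fin d) (Fin d ⊕ Fin d) F) = z • (1 : Matrix (Fin d ⊕ Fin d) (Fin d ⊕ Fin d) F)) →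
      (∀ z : F, (x : Matrix (Fin d ⊕ Fin d) (Fin d ⊕ Fin d) F) ≠ z • (1 : Matrix (Fin d ⊕ Fin d) (Fin d ⊕ Fin d) F)) →
      ∃ W : Submodule F (Fin d ⊕ Fin d → F), (Module.finrank F ↥W = 1 ∧ ∃ v ∈ W, Cfsg.quadFormPlus d F v ≠ 0) ∧ W.map (Matrix.toLin' (x : Matrix (Fin d ⊕ Fin d) (Fin d ⊕ Fin d) F)) ≤ W) ↔ (r = 2 ∧ Odd d) := by
  subst hp
  have hm : 1 ≤ d := by omega
  have hne : Fintype.card F ≠ 2 ∨ d ≠ 2 := Or.inr (by omega)
  have h2 : (2 : F) = 0 := CharTwo.two_eq_zero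
  have hQ := Cfsg.Agent.helper29.OM.isQF_plus (F := F) (m := d)
  have hcard : Fintype.card (Fin d ⊕ Fin d) = 2 * d := by
    rw [Fintype.card_sum, Fintype.card_fin]
    ring
  obtain ⟨v0, hv0⟩ : ∃ v0 : Fin d ⊕ Fin d → F, Cfsg.quadFormPlus d F v0 ≠ 0 :=
    Cfsg.Agent.helper13.exists_nonsing_top (Cfsg.Agent.helper29.OM.bundQ hQ)
      (Cfsg.Agent.helper29.OM.bundQ_nondeg hQ) (by omega)
  have hv0ne := Cfsg.Agent.helper29.NS.QQ_ne_zero_of_ne v0 hv0
  have hsq : ∀ z : F, z * z = 1 → z = 1 := by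
    intro z hz
    have : (z - 1) * (z - 1) = 0 := by linear_combination hz - z * h2 + h2
    exact sub_eq_zero.mp (mul_self_eq_zero.mp this)
  constructor
  · intro hall
    have hr : r = 2 := by
      by_contra hr2
      rw [Cfsg.Agent.helper29.NS.card_npt hq hm] at hrΩ
      have hrq : ¬ r ∣ q := by
        intro h
        obtain ⟨f, -, hf⟩ := FiniteField.card F 2
        rw [hq] at hf
        rw [hf] at h
        have := (Nat.prime_dvd_prime_iff_eq (Fact.out : r.Prime) Nat.prime_two).mp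
          ((Fact.out : r.Prime).dvd_of_dvd_pow h)
        exact hr2 this
      have hr' : r ∣ q ^ d - 1 := by
        rcases ((Fact.out : r.Prime).dvd_mul).mp hrΩ with h | h
        · exact absurd ((Fact.out : r.Prime).dvd_of_dvd_pow h) hrq
        · exact h
      obtain ⟨g, hgc, hgr, hgW⟩ :=
        Cfsg.Agent.helper29.NS.exists_odd_order_no_fix hq hm hne r hr2 hr'
      have hx : (g : GL (Fin d ⊕ Fin d) F) ∈ Cfsg.Geo.omegaGL (Cfsg.quadFormPlus d F) :=
        ⟨g, hgc, rfl⟩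
      have hxr : ∃ z : F, (((g : GL (Fin d ⊕ Fin d) F) ^ r : GL (Fin d ⊕ Fin d) F) :
          Matrix (Fin d ⊕ Fin d) (Fin d ⊕ Fin d) F) =
          z • (1 : Matrix (Fin d ⊕ Fin d) (Fin d ⊕ Fin d) F) := by
        refine ⟨1, ?_⟩
        rw [← Subgroup.coe_pow, hgr, one_smul]
        rfl
      have hns : ∀ z : F, ((g : GL (Fin d ⊕ Fin d) F) :
          Matrix (Fin d ⊕ Fin d) (Fin d ⊕ Fin d) F) ≠
          z • (1 : Matrix (Fin d ⊕ Fin d) (Fin d ⊕ Fin d) F) := by
        intro z hz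
        apply hgW (Submodule.span F {v0}) (finrank_span_singleton hv0ne)
          ⟨v0, Submodule.mem_span_singleton_self v0, hv0⟩
        rw [Submodule.map_le_iff_le_comap, Submodule.span_singleton_le_iff_mem,
          Submodule.mem_comap, Matrix.toLin'_apply, hz, Matrix.smul_mulVec, Matrix.one_mulVec]
        exact Submodule.smul_mem _ _ (Submodule.mem_span_singleton_self v0)
      obtain ⟨W, ⟨hW1, hW2⟩, hW3⟩ := hall _ hx hxr hns
      exact hgW W hW1 hW2 hW3
    refine ⟨hr, ?_⟩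
    subst hr
    by_contra hodd
    rw [Nat.not_odd_iff_even] at hodd
    obtain ⟨t, htt, ht1, htc, hfix⟩ := Cfsg.Agent.helper29.NS.exists_special_invol hodd hm hne
    have htt' : ((t : GL (Fin d ⊕ Fin d) F) : Matrix (Fin d ⊕ Fin d) (Fin d ⊕ Fin d) F) *
        ((t : GL (Fin d ⊕ Fin d) F) : Matrix (Fin d ⊕ Fin d) (Fin d ⊕ Fin d) F) = 1 := by
      have := congrArg (fun g : ↥(Cfsg.isometryGroup F (Cfsg.quadFormPlus d F)) =>
        ((g : GL (Fin d ⊕ Fin d) F) : Matrix (Fin d ⊕ Fin d) (Fin d ⊕ Fin d) F)) htt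
      exact this
    have hx : (t : GL (Fin d ⊕ Fin d) F) ∈ Cfsg.Geo.omegaGL (Cfsg.quadFormPlus d F) :=
      ⟨t, htc, rfl⟩
    have hxr : ∃ z : F, (((t : GL (Fin d ⊕ Fin d) F) ^ 2 : GL (Fin d ⊕ Fin d) F) :
        Matrix (Fin d ⊕ Fin d) (Fin d ⊕ Fin d) F) =
        z • (1 : Matrix (Fin d ⊕ Fin d) (Fin d ⊕ Fin d) F) := by
      refine ⟨1, ?_⟩
      rw [pow_two, Units.val_mul, htt', one_smul]
    have hns : ∀ z : F, ((t : GL (Fin d ⊕ Fin d) F) :
        Matrix (Fin d ⊕ Fin d) (Fin d ⊕ Fin d) F) ≠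
        z • (1 : Matrix (Fin d ⊕ Fin d) (Fin d ⊕ Fin d) F) := by
      intro z hz
      have h1 : (z * z) • v0 = v0 := by
        have := congrArg (fun M : Matrix (Fin d ⊕ Fin d) (Fin d ⊕ Fin d) F => Matrix.mulVec M v0) htt'
        simp only [hz, Matrix.one_mulVec, ← Matrix.mulVec_mulVec, Matrix.smul_mulVec] at this
        rw [smul_smul] at this
        exact this
      have h3 : z * z = 1 := by
        have h4 : (z * z - 1) • v0 = 0 := by rw [sub_smul, h1, one_smul, sub_self]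
        rcases smul_eq_zero.mp h4 with h5 | h5
        · exact sub_eq_zero.mp h5
        · exact absurd h5 hv0ne
      have hz1 := hsq z h3
      apply hv0
      apply hfix
      rw [hz, hz1, one_smul, Matrix.one_mulVec]
    obtain ⟨W, ⟨hW1, v, hvW, hQv⟩, hW3⟩ := hall _ hx hxr hns
    have hvne := Cfsg.Agent.helper29.NS.QQ_ne_zero_of_ne v hQv
    have h1 : Matrix.toLin' ((t : GL (Fin d ⊕ Fin d) F) :
        Matrix (Fin d ⊕ Fin d) (Fin d ⊕ Fin d) F) v ∈ W := hW3 (Submodule.mem_map_of_mem hvW)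
    obtain ⟨μ, hμ⟩ := Cfsg.Agent.helper29.NS.line_mem W hW1 v hvW hvne _ h1
    rw [Matrix.toLin'_apply] at hμ
    have h3 : (μ * μ) • v = v := by
      have := congrArg (fun M : Matrix (Fin d ⊕ Fin d) (Fin d ⊕ Fin d) F => Matrix.mulVec M v) htt'
      simp only [Matrix.one_mulVec, ← Matrix.mulVec_mulVec] at this
      rw [← hμ, Matrix.mulVec_smul, ← hμ, smul_smul] at this
      exact this
    have h4 : μ * μ = 1 := by
      have h5 : (μ * μ - 1) • v = 0 := by rw [sub_smul, h3, one_smul, sub_self]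
      rcases smul_eq_zero.mp h5 with h6 | h6
      · exact sub_eq_zero.mp h6
      · exact absurd h6 hvne
    have hμ1 := hsq μ h4
    rw [hμ1, one_smul] at hμ
    exact hQv (hfix v hμ.symm)
  · rintro ⟨rfl, hodd⟩
    rintro x ⟨g, hgc, rfl⟩ ⟨z, hz⟩ hns
    have hgg : ((g : GL (Fin d ⊕ Fin d) F) : Matrix (Fin d ⊕ Fin d) (Fin d ⊕ Fin d) F) *
        ((g : GL (Fin d ⊕ Fin d) F) : Matrix (Fin d ⊕ Fin d) (Fin d ⊕ Fin d) F) =
        z • (1 : Matrix (Fin d ⊕ Fin d) (Fin d ⊕ Fin d) F) := by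
      rw [← hz, pow_two, Units.val_mul]
      rfl
    have hpres : ∀ u : Fin d ⊕ Fin d → F, Cfsg.quadFormPlus d F
        (Matrix.mulVec ((g : GL (Fin d ⊕ Fin d) F) :
          Matrix (Fin d ⊕ Fin d) (Fin d ⊕ Fin d) F) u) =
        Cfsg.quadFormPlus d F u := fun u => g.2 u 0
    have hz1 : z = 1 := by
      apply hsq
      have h1 : Cfsg.quadFormPlus d F (z • v0) = Cfsg.quadFormPlus d F v0 := by
        have : z • v0 = Matrix.mulVec ((g : GL (Fin d ⊕ Fin d) F) :
            Matrix (Fin d ⊕ Fin d) (Fin d ⊕ Fin d) F)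
            (Matrix.mulVec ((g : GL (Fin d ⊕ Fin d) F) :
              Matrix (Fin d ⊕ Fin d) (Fin d ⊕ Fin d) F) v0) := by
          rw [Matrix.mulVec_mulVec, hgg, Matrix.smul_mulVec, Matrix.one_mulVec]
        rw [this, hpres, hpres]
      rw [Cfsg.Agent.helper29.NS.QQ_smul'] at h1
      have h3 : (z ^ 2 - 1) * Cfsg.quadFormPlus d F v0 = 0 := by rw [sub_mul, h1, one_mul, sub_self]
      rcases mul_eq_zero.mp h3 with h4 | h4
      · rw [← pow_two]
        exact sub_eq_zero.mp h4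
      · exact absurd h4 hv0
    have hgg1 : g * g = 1 := by
      apply Subtype.ext
      apply Units.ext
      rw [hz1, one_smul] at hgg
      exact hgg
    obtain ⟨a, hfa, hQa⟩ := Cfsg.Agent.helper29.NS.invol_fix_nonsing hodd g hgg1
    have hane := Cfsg.Agent.helper29.NS.QQ_ne_zero_of_ne a hQa
    refine ⟨Submodule.span F {a}, ⟨finrank_span_singleton hane,
      a, Submodule.mem_span_singleton_self a, hQa⟩, ?_⟩
    rw [Submodule.map_le_iff_le_comap, Submodule.span_singleton_le_iff_mem,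
      Submodule.mem_comap, Matrix.toLin'_apply]
    show Matrix.mulVec ((g : GL (Fin d ⊕ Fin d) F) :
      Matrix (Fin d ⊕ Fin d) (Fin d ⊕ Fin d) F) a ∈ _
    rw [hfa]
    exact Submodule.mem_span_singleton_self a

end Cfsg.Agent.S5985
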