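import Cfsg.Statements.S5986
import Mathlib
import Cfsg.Agent.Lib_helper29_NS13
-- import your own Cfsg.Agent.* helpers here

set_option autoImplicit false
open scoped MatrixGroups
open Cfsg

namespace Cfsg.Agent.S5986

/-- Elements of prime order of Ω⁻_n(q), q even, with no fixed nonsingular 1-space. Here `T = PΩ⁻_n(F)`, `n = 2d ≥ 8`, realised through `Ω⁻_n(q)`, the commutator subgroup of the isometry group of `Q = Σ_{i<d−1} xᵢyᵢ + z₁² + a z₁z₂ + b z₂²` with `z₁² + a z₁z₂ + b z₂²` anisotropic, over the field `F` with `q` elements; an element of `T` of prime order `r` is an element `x` of `Ω⁻_n(q)` with `x^r` scalar and `x` not scalar; `q` is even (so the centre is trivial). Let Ω be the set of 1-dimensional subspaces spanned by a vector `v` with `Q(v) ≠ 0`, and let `r` be a prime dividing their number. Then every element of `T` of order `r` fixes some nonsingular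 1-space if and only if `r = 2`. -/
theorem result {F : Type*} [Field F] [Fintype F] {p : ℕ} [Fact p.Prime] [CharP F p] {q : ℕ} (hq : Fintype.card F = q)
    (hp : p = 2) (d : ℕ) (hd : 4 ≤ d) (a b : F) (hab : ∀ x y : F, x ^ 2 + a * x * y + b * y ^ 2 = 0 → x = 0 ∧ y = 0) (r : ℕ) [Fact r.Prime]
    (hrΩ : r ∣ Nat.card {W : Submodule F ((Fin (d - 1) ⊕ Fin (d - 1)) ⊕ Fin 2 → F) // Module.finrank F ↥W = 1 ∧ ∃ v ∈ W, Cfsg.quadFormMinus (d - 1) F a b v ≠ 0}) :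
    (∀ x : GL ((Fin (d - 1) ⊕ Fin (d - 1)) ⊕ Fin 2) F, x ∈ Cfsg.Geo.omegaGL (Cfsg.quadFormMinus (d - 1) F a b) →
      (∃ z : F, ((x ^ r : GL ((Fin (d - 1) ⊕ Fin (d - 1)) ⊕ Fin 2) F) : Matrix ((Fin (d - 1) ⊕ Fin (d - 1)) ⊕ Fin 2) ((Fin (d - 1) ⊕ Fin (d - 1)) ⊕ Fin 2) F) = z • (1 : Matrix ((Fin (d - 1) ⊕ Fin (d - 1)) ⊕ Fin 2) ((Fin (d - 1) ⊕ Fin (d - 1)) ⊕ Fin 2) F)) →
      (∀ z : F, (x : Matrix ((Fin (d - 1) ⊕ Fin (d - 1)) ⊕ Fin 2) ((Fin (d - 1) ⊕ Fin (d - 1)) ⊕ Fin 2) F) ≠ z • (1 : Matrix ((Fin (d - 1) ⊕ Fin (d - 1)) ⊕ Fin 2) ((Fin (d - 1) ⊕ Fin (d - 1)) ⊕ Fin 2) F)) →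
      ∃ W : Submodule F ((Fin (d - 1) ⊕ Fin (d - 1)) ⊕ Fin 2 → F), (Module.finrank F ↥W = 1 ∧ ∃ v ∈ W, Cfsg.quadFormMinus (d - 1) F a b v ≠ 0) ∧ W.map (Matrix.toLin' (x : Matrix ((Fin (d - 1) ⊕ Fin (d - 1)) ⊕ Fin 2) ((Fin (d - 1) ⊕ Fin (d - 1)) ⊕ Fin 2) F)) ≤ W) ↔ r = 2 := by
  subst hp
  generalize hk : d - 1 = k at hrΩ ⊢
  have hk3 : 3 ≤ k := by omega
  have hne : Fintype.card F ≠ 2 ∨ k + 1 ≠ 2 := Or.inr (by omega)
  have h2 : (2 : F) = 0 := CharTwo.two_eq_zero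
  have hq2 : 2 ≤ q := by
    rw [← hq]
    exact Fintype.one_lt_card
  have hQs : ∀ (c : F) (v : (Fin k ⊕ Fin k) ⊕ Fin 2 → F),
      Cfsg.quadFormMinus k F a b (c • v) = c ^ 2 * Cfsg.quadFormMinus k F a b v :=
    fun c v => Cfsg.Agent.helper29.NS.minus_smul k a b c v
  have hcard := Cfsg.Agent.helper29.NS.card_npt_minus k hq a b hab
  obtain ⟨v0, hv0⟩ : ∃ v0 : (Fin k ⊕ Fin k) ⊕ Fin 2 → F, Cfsg.quadFormMinus k F a b v0 ≠ 0 := by
    have hpos : 0 < Nat.card {W : Submodule F ((Fin k ⊕ Fin k) ⊕ Fin 2 → F) //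
        Module.finrank F ↥W = 1 ∧ ∃ v ∈ W, Cfsg.quadFormMinus k F a b v ≠ 0} := by
      rw [hcard]
      exact Nat.mul_pos (Nat.pow_pos (by omega)) (by omega)
    obtain ⟨⟨W, hW1, v, hvW, hQv⟩⟩ := (Nat.card_pos_iff.mp hpos).1
    exact ⟨v, hQv⟩
  have hv0ne := Cfsg.Agent.helper29.NS.gen_ne_zero _ hQs v0 hv0
  have hsq : ∀ z : F, z * z = 1 → z = 1 := by
    intro z hz
    have : (z - 1) * (z - 1) = 0 := by linear_combination hz - z * h2 + h2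
    exact sub_eq_zero.mp (mul_self_eq_zero.mp this)
  constructor
  · intro hall
    by_contra hr2
    rw [hcard] at hrΩ
    have hrq : ¬ r ∣ q := by
      intro h
      obtain ⟨f, -, hf⟩ := FiniteField.card F 2
      rw [hq] at hf
      rw [hf] at h
      have := (Nat.prime_dvd_prime_iff_eq (Fact.out : r.Prime) Nat.prime_two).mp
        ((Fact.out : r.Prime).dvd_of_dvd_pow h)
      exact hr2 this
    have hr' : r ∣ q ^ (k + 1) + 1 := by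
      rcases ((Fact.out : r.Prime).dvd_mul).mp hrΩ with h | h
      · exact absurd ((Fact.out : r.Prime).dvd_of_dvd_pow h) hrq
      · exact h
    obtain ⟨g, hgc, hgr, hgW⟩ :=
      Cfsg.Agent.helper29.NS.exists_odd_order_no_fix_minus k hq a b hab hne r hr2 hr'
    have hx : (g : GL ((Fin k ⊕ Fin k) ⊕ Fin 2) F) ∈
        Cfsg.Geo.omegaGL (Cfsg.quadFormMinus k F a b) := ⟨g, hgc, rfl⟩
    have hxr : ∃ z : F, (((g : GL ((Fin k ⊕ Fin k) ⊕ Fin 2) F) ^ r :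
        GL ((Fin k ⊕ Fin k) ⊕ Fin 2) F) :
        Matrix ((Fin k ⊕ Fin k) ⊕ Fin 2) ((Fin k ⊕ Fin k) ⊕ Fin 2) F) =
        z • (1 : Matrix ((Fin k ⊕ Fin k) ⊕ Fin 2) ((Fin k ⊕ Fin k) ⊕ Fin 2) F) := by
      refine ⟨1, ?_⟩
      rw [← Subgroup.coe_pow, hgr, one_smul]
      rfl
    have hns : ∀ z : F, ((g : GL ((Fin k ⊕ Fin k) ⊕ Fin 2) F) :
        Matrix ((Fin k ⊕ Fin k) ⊕ Fin 2) ((Fin k ⊕ Fin k) ⊕ Fin 2) F) ≠
        z • (1 : Matrix ((Fin k ⊕ Fin k) ⊕ Fin 2) ((Fin k ⊕ Fin k) ⊕ Fin 2) F) := by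
      intro z hz
      apply hgW v0 z hv0ne
      rw [hz, Matrix.smul_mulVec, Matrix.one_mulVec]
    obtain ⟨W, ⟨hW1, v, hvW, hQv⟩, hW3⟩ := hall _ hx hxr hns
    have hvne := Cfsg.Agent.helper29.NS.gen_ne_zero _ hQs v hQv
    have h1 : Matrix.toLin' ((g : GL ((Fin k ⊕ Fin k) ⊕ Fin 2) F) :
        Matrix ((Fin k ⊕ Fin k) ⊕ Fin 2) ((Fin k ⊕ Fin k) ⊕ Fin 2) F) v ∈ W :=
      hW3 (Submodule.mem_map_of_mem hvW)
    obtain ⟨μ, hμ⟩ := Cfsg.Agent.helper29.NS.line_mem W hW1 v hvW hvne _ h1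
    rw [Matrix.toLin'_apply] at hμ
    exact hgW v μ hvne hμ.symm
  · rintro rfl
    rintro x ⟨g, hgc, rfl⟩ ⟨z, hz⟩ hns
    have hgg : ((g : GL ((Fin k ⊕ Fin k) ⊕ Fin 2) F) :
        Matrix ((Fin k ⊕ Fin k) ⊕ Fin 2) ((Fin k ⊕ Fin k) ⊕ Fin 2) F) *
        ((g : GL ((Fin k ⊕ Fin k) ⊕ Fin 2) F) :
        Matrix ((Fin k ⊕ Fin k) ⊕ Fin 2) ((Fin k ⊕ Fin k) ⊕ Fin 2) F) =
        z • (1 : Matrix ((Fin k ⊕ Fin k) ⊕ Fin 2) ((Fin k ⊕ Fin k) ⊕ Fin 2) F) := by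
      rw [← hz, pow_two, Units.val_mul]
      rfl
    have hpres : ∀ u : (Fin k ⊕ Fin k) ⊕ Fin 2 → F, Cfsg.quadFormMinus k F a b
        (Matrix.mulVec ((g : GL ((Fin k ⊕ Fin k) ⊕ Fin 2) F) :
          Matrix ((Fin k ⊕ Fin k) ⊕ Fin 2) ((Fin k ⊕ Fin k) ⊕ Fin 2) F) u) =
        Cfsg.quadFormMinus k F a b u := fun u => g.2 u 0
    have hz1 : z = 1 := by
      apply hsq
      have h1 : Cfsg.quadFormMinus k F a b (z • v0) = Cfsg.quadFormMinus k F a b v0 := by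
        have : z • v0 = Matrix.mulVec ((g : GL ((Fin k ⊕ Fin k) ⊕ Fin 2) F) :
            Matrix ((Fin k ⊕ Fin k) ⊕ Fin 2) ((Fin k ⊕ Fin k) ⊕ Fin 2) F)
            (Matrix.mulVec ((g : GL ((Fin k ⊕ Fin k) ⊕ Fin 2) F) :
              Matrix ((Fin k ⊕ Fin k) ⊕ Fin 2) ((Fin k ⊕ Fin k) ⊕ Fin 2) F) v0) := by
          rw [Matrix.mulVec_mulVec, hgg, Matrix.smul_mulVec, Matrix.one_mulVec]
        rw [this, hpres, hpres]
      rw [hQs] at h1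
      have h3 : (z ^ 2 - 1) * Cfsg.quadFormMinus k F a b v0 = 0 := by
        rw [sub_mul, h1, one_mul, sub_self]
      rcases mul_eq_zero.mp h3 with h4 | h4
      · rw [← pow_two]
        exact sub_eq_zero.mp h4
      · exact absurd h4 hv0
    have hgg1 : g * g = 1 := by
      apply Subtype.ext
      apply Units.ext
      rw [hz1, one_smul] at hgg
      exact hgg
    obtain ⟨a', hfa, hQa⟩ := Cfsg.Agent.helper29.NS.invol_fix_nonsing_minus k a b hab g hgg1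
    have hane := Cfsg.Agent.helper29.NS.gen_ne_zero _ hQs a' hQa
    refine ⟨Submodule.span F {a'}, ⟨finrank_span_singleton hane,
      a', Submodule.mem_span_singleton_self a', hQa⟩, ?_⟩
    rw [Submodule.map_le_iff_le_comap, Submodule.span_singleton_le_iff_mem,
      Submodule.mem_comap, Matrix.toLin'_apply]
    show Matrix.mulVec ((g : GL ((Fin k ⊕ Fin k) ⊕ Fin 2) F) :
      Matrix ((Fin k ⊕ Fin k) ⊕ Fin 2) ((Fin k ⊕ Fin k) ⊕ Fin 2) F) a' ∈ _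
    rw [hfa]
    exact Submodule.mem_span_singleton_self a'

end Cfsg.Agent.S5986
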